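import Mathlib
import Cfsg.Agent.ClosedTwo.Elem
import Cfsg.Agent.FastGrp
import Cfsg.Agent.Prune
set_option linter.all false
prune_inst 0x7f00000000000000000000000000000000000000000000000000000000000000000000000000000000000000000000000000000000000000000000000000000000000000000000000000000000000000003fffffffffffffffffffffffffffbeffbdffffffff
open scoped Cfsg.Agent.FastGrp

/-!
# Classes of elements closed under products inside `p`-subgroups (helper749)

* `PCl p P` : the predicate `P` on the group `G` is invariant under conjugation and inverses and closed under products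
  inside `p`-subgroups. The conjugates of the elements of a strongly closed subgroup of a Sylow `p`-subgroup form such a
  class (`pcl_cl`), and `PCl` is stable under pull-back along homomorphisms (`PCl.comap`).
* `FullP p G` : every such class containing a `p`-element `≠ 1` contains all `p`-elements;
* `eq_of_fullP` : then a strongly closed subgroup of a Sylow `p`-subgroup is trivial or the whole.
-/

set_option autoImplicit false

namespace Cfsg.Agent.H749

open Subgroup Cfsg

/-- `P` is closed under conjugation, inverses and products inside `p`-subgroups. -/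
structure PCl (p : ℕ) {G : Type*} [Group G] (P : G → Prop) : Prop where
  one : P 1
  inv : ∀ {x : G}, P x → P x⁻¹
  conj : ∀ {x : G} (g : G), P x → P (g * x * g⁻¹)
  mul : ∀ {Q : Subgroup G}, IsPGroup p Q → ∀ {x y : G}, x ∈ Q → y ∈ Q → P x → P y → P (x * y)

/-- `x` is a `p`-element. -/
def PEl (p : ℕ) {G : Type*} [Group G] (x : G) : Prop := ∃ k : ℕ, x ^ p ^ k = 1

/-- every class closed under conjugation, inverses and products inside `p`-subgroups with a `p`-element `≠ 1` contains all
the `p`-elements -/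
def FullP (p : ℕ) (G : Type*) [Group G] : Prop :=
  ∀ P : G → Prop, PCl p P → (∃ x : G, PEl p x ∧ x ≠ 1 ∧ P x) → ∀ x : G, PEl p x → P x

section basic

variable {p : ℕ} {G : Type*} [Group G]

theorem PEl.one : PEl p (1 : G) := ⟨0, one_pow _⟩

theorem PEl.conj {x : G} (h : PEl p x) (g : G) : PEl p (g * x * g⁻¹) := by
  obtain ⟨k, hk⟩ := h
  exact ⟨k, by rw [conj_pow, hk, mul_one, mul_inv_cancel]⟩

theorem PEl.inv {x : G} (h : PEl p x) : PEl p x⁻¹ := by
  obtain ⟨k, hk⟩ := h
  exact ⟨k, by rw [inv_pow, hk, inv_one]⟩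

theorem PEl.pow {x : G} (h : PEl p x) (n : ℕ) : PEl p (x ^ n) := by
  obtain ⟨k, hk⟩ := h
  exact ⟨k, by rw [← pow_mul, mul_comm, pow_mul, hk, one_pow]⟩

theorem PEl.zpow {x : G} (h : PEl p x) (n : ℤ) : PEl p (x ^ n) := by
  obtain ⟨k, hk⟩ := h
  exact ⟨k, by rw [← zpow_natCast, ← zpow_mul, mul_comm, zpow_mul, zpow_natCast, hk, one_zpow]⟩

theorem PEl.map {x : G} (h : PEl p x) {H : Type*} [Group H] (f : G →* H) : PEl p (f x) := by
  obtain ⟨k, hk⟩ := h
  exact ⟨k, by rw [← map_pow, hk, map_one]⟩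

theorem PEl.of_map {x : G} {H : Type*} [Group H] {f : G →* H} (hf : Function.Injective f) (h : PEl p (f x)) :
    PEl p x := by
  obtain ⟨k, hk⟩ := h
  exact ⟨k, hf (by rw [map_pow, hk, map_one])⟩

theorem PEl.of_isPGroup {Q : Subgroup G} (hQ : IsPGroup p Q) {x : G} (hx : x ∈ Q) : PEl p x := by
  obtain ⟨k, hk⟩ := hQ ⟨x, hx⟩
  exact ⟨k, by simpa using congrArg Subtype.val hk⟩

theorem isPGroup_iff {Q : Subgroup G} : IsPGroup p Q ↔ ∀ x ∈ Q, PEl p x := by
  refine ⟨fun h x hx => PEl.of_isPGroup h hx, fun h => ?_⟩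
  rintro ⟨x, hx⟩
  obtain ⟨k, hk⟩ := h x hx
  exact ⟨k, Subtype.ext hk⟩

theorem PEl.mul_of_commute {x y : G} (hx : PEl p x) (hy : PEl p y) (h : x * y = y * x) : PEl p (x * y) := by
  obtain ⟨k, hk⟩ := hx
  obtain ⟨l, hl⟩ := hy
  refine ⟨k + l, ?_⟩
  rw [(show Commute x y from h).mul_pow, pow_add, pow_mul, hk, one_pow, mul_comm (p ^ k), pow_mul, hl, one_pow, one_mul]

theorem isPGroup_zpowers {x : G} (h : PEl p x) : IsPGroup p (zpowers x) := by
  rw [isPGroup_iff]
  rintro y hy
  obtain ⟨n, rfl⟩ := mem_zpowers_iff.1 hy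
  exact h.zpow n

/-- a subgroup generated by pairwise commuting `p`-elements is a `p`-group -/
theorem isPGroup_closure {X : Set G} (hX : ∀ x ∈ X, PEl p x) (hc : ∀ x ∈ X, ∀ y ∈ X, x * y = y * x) :
    IsPGroup p (closure X) := by
  rw [isPGroup_iff]
  have hcc : ∀ a ∈ closure X, ∀ b ∈ closure X, a * b = b * a := by
    intro a ha b hb
    have h1 : closure X ≤ centralizer X := (closure_le _).2 fun x hx => by
      rw [SetLike.mem_coe, mem_centralizer_iff]
      intro y hy
      exact hc y hy x hx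
    have h2 : closure X ≤ centralizer (closure X : Set G) := by
      rw [centralizer_closure]
      exact h1
    exact (mem_centralizer_iff.1 (h2 hb) a ha)
  intro x hx
  induction hx using closure_induction with
  | mem x hx => exact hX x hx
  | one => exact PEl.one
  | mul x y hx hy h1 h2 => exact h1.mul_of_commute h2 (hcc x hx y hy)
  | inv x _ h => exact h.inv

/-- commuting `p`-elements generate a `p`-group -/
theorem isPGroup_pair {x y : G} (hx : PEl p x) (hy : PEl p y) (h : x * y = y * x) :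
    IsPGroup p (closure ({x, y} : Set G)) := by
  refine isPGroup_closure ?_ ?_
  · rintro z (rfl | rfl)
    · exact hx
    · exact hy
  · rintro a (rfl | rfl) b (rfl | rfl)
    · rfl
    · exact h
    · exact h.symm
    · rfl

theorem isPGroup_sup {H K : Subgroup G} (hH : IsPGroup p H) (hK : IsPGroup p K)
    (h : H ≤ normalizer (K : Set G)) : IsPGroup p ↥(H ⊔ K) :=
  hH.to_sup_of_normal_right' hK h

/-- a `p`-element normalizing a `p`-group: together they generate a `p`-group -/
theorem isPGroup_sup_zpowers {x : G} {K : Subgroup G} (hx : PEl p x) (hK : IsPGroup p K)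
    (h : ∀ y ∈ K, x * y * x⁻¹ ∈ K) (h' : ∀ y ∈ K, x⁻¹ * y * x ∈ K) : IsPGroup p ↥(zpowers x ⊔ K) := by
  refine isPGroup_sup (isPGroup_zpowers hx) hK ?_
  rw [zpowers_le, mem_normalizer_iff]
  intro y
  refine ⟨h y, fun hy => ?_⟩
  have := h' _ hy
  have e : x⁻¹ * (x * y * x⁻¹) * x = y := by group
  rwa [e] at this

namespace PCl

variable {P : G → Prop} (hP : PCl p P)

include hP

theorem of_conj {x g : G} (h : P (g * x * g⁻¹)) : P x := by
  have := hP.conj g⁻¹ h
  have e : g⁻¹ * (g * x * g⁻¹) * g⁻¹⁻¹ = x := by group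
  rwa [e] at this

theorem conj_iff {x : G} (g : G) : P (g * x * g⁻¹) ↔ P x := ⟨hP.of_conj, hP.conj g⟩

theorem mul_comm {x y : G} (hx : PEl p x) (hy : PEl p y) (h : x * y = y * x) (h1 : P x) (h2 : P y) : P (x * y) :=
  hP.mul (isPGroup_pair hx hy h) (subset_closure (by simp)) (subset_closure (by simp)) h1 h2

theorem pow {x : G} (hx : PEl p x) (h : P x) (n : ℕ) : P (x ^ n) := by
  induction n with
  | zero => rw [pow_zero]; exact hP.one
  | succ n ih =>
    rw [pow_succ]
    exact hP.mul_comm (hx.pow n) hx (by rw [← pow_succ, pow_succ']) ih h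

theorem zpow {x : G} (hx : PEl p x) (h : P x) (n : ℤ) : P (x ^ n) := by
  cases n with
  | ofNat n => rw [Int.ofNat_eq_natCast, zpow_natCast]; exact hP.pow hx h n
  | negSucc n => rw [zpow_negSucc]; exact hP.inv (hP.pow hx h _)

theorem comap {H : Type*} [Group H] (f : H →* G) : PCl p (fun x => P (f x)) where
  one := by rw [map_one]; exact hP.one
  inv := fun h => by rw [map_inv]; exact hP.inv h
  conj := fun g h => by rw [map_mul, map_mul, map_inv]; exact hP.conj _ h
  mul := fun {Q} hQ {x y} hx hy h1 h2 => by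
    rw [map_mul]
    exact hP.mul (hQ.map f) (mem_map_of_mem f hx) (mem_map_of_mem f hy) h1 h2

/-- commutators with elements of a `p`-group containing `x` -/
theorem comm {Q : Subgroup G} (hQ : IsPGroup p Q) {d x : G} (hd : d ∈ Q) (hx : x ∈ Q) (h : P x) :
    P (d * x * d⁻¹ * x⁻¹) :=
  hP.mul hQ (Q.mul_mem (Q.mul_mem hd hx) (Q.inv_mem hd)) (Q.inv_mem hx) (hP.conj d h) (hP.inv h)

theorem closure {Q : Subgroup G} (hQ : IsPGroup p Q) {X : Set G} (hX : ∀ x ∈ X, x ∈ Q ∧ P x) {y : G}
    (hy : y ∈ Subgroup.closure X) : P y := by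
  have hle : Subgroup.closure X ≤ Q := (closure_le _).2 fun x hx => (hX x hx).1
  induction hy using closure_induction with
  | mem x hx => exact (hX x hx).2
  | one => exact hP.one
  | mul x y hx hy h1 h2 => exact hP.mul hQ (hle hx) (hle hy) h1 h2
  | inv x _ h => exact hP.inv h

end PCl

end basic

section finite

variable {p : ℕ} [hp : Fact p.Prime] {G : Type*} [Group G]

/-- the conjugates of the elements of a strongly closed subgroup -/
theorem pcl_cl [Finite G] {S : Sylow p G} {A : Subgroup G} (hA : IsStronglyClosed A (S : Subgroup G)) :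
    PCl p (ClosedTwo.Elem.Cl A) where
  one := ClosedTwo.Elem.cl_one
  inv := fun h => h.inv
  conj := fun g h => h.conj g
  mul := fun hQ _ _ hx hy h1 h2 => ClosedTwo.Elem.Cl.mul hA hQ hx hy h1 h2

/-- a strongly closed subgroup is trivial or the whole Sylow subgroup -/
theorem eq_of_fullP [Finite G] (h : FullP p G) {S : Sylow p G} {A : Subgroup G}
    (hA : IsStronglyClosed A (S : Subgroup G)) : A = ⊥ ∨ A = (S : Subgroup G) := by
  by_cases h1 : A = ⊥
  · exact Or.inl h1
  refine Or.inr (ClosedTwo.Elem.eq_of_cl hA fun x hx => ?_)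
  obtain ⟨y, hy1⟩ := Subgroup.ne_bot_iff_exists_ne_one.1 h1
  refine h _ (pcl_cl hA) ⟨y, PEl.of_isPGroup S.2 (hA.1 y.2), fun e => hy1 (Subtype.ext e), ?_⟩ x
    (PEl.of_isPGroup S.2 hx)
  exact ClosedTwo.Elem.cl_of_mem y.2

/-- `p`-elements lift along surjective homomorphisms of finite groups -/
theorem exists_pEl_lift {H : Type*} [Group H] [Finite H] (f : H →* G) (hf : Function.Surjective f) {x : G}
    (hx : PEl p x) : ∃ y : H, PEl p y ∧ f y = x := by
  obtain ⟨k, hk⟩ := hx
  obtain ⟨y, rfl⟩ := hf x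
  have hn : Nat.card H ≠ 0 := Nat.card_ne_zero.2 ⟨⟨1⟩, inferInstance⟩
  obtain ⟨a, m, hm, e⟩ := Nat.exists_eq_pow_mul_and_not_dvd hn p hp.out.ne_one
  have hcop : Nat.Coprime m (p ^ k) := (Nat.Coprime.pow_right k ((hp.out.coprime_iff_not_dvd.2 hm).symm))
  obtain ⟨n, hn1, hn2⟩ : ∃ n : ℕ, n ≡ 0 [MOD m] ∧ n ≡ 1 [MOD p ^ k] :=
    ⟨_, (Nat.chineseRemainder hcop 0 1).2⟩
  refine ⟨y ^ n, ⟨a, ?_⟩, ?_⟩
  · obtain ⟨c, rfl⟩ := (Nat.modEq_zero_iff_dvd.1 hn1)
    rw [← pow_mul, show m * c * p ^ a = Nat.card H * c by rw [e]; ring, pow_mul, pow_card_eq_one', one_pow]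
  · rw [map_pow]
    have h1 : f y ^ n = f y ^ 1 := by
      rw [pow_eq_pow_iff_modEq]
      exact hn2.of_dvd (orderOf_dvd_of_pow_eq_one hk)
    rw [h1, pow_one]

/-- passage to a quotient -/
theorem FullP.of_surjective {H : Type*} [Group H] [Finite H] (f : H →* G) (hf : Function.Surjective f)
    (h : ∀ P : H → Prop, PCl p P → (∀ z : H, f z = 1 → P z) → (∃ x : H, PEl p x ∧ f x ≠ 1 ∧ P x) →
      ∀ x : H, PEl p x → P x) : FullP p G := by
  rintro P hP ⟨x, hx, hx1, hPx⟩ y hy
  obtain ⟨y', hy', rfl⟩ := exists_pEl_lift f hf hy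
  obtain ⟨x', hx', rfl⟩ := exists_pEl_lift f hf hx
  exact h _ (hP.comap f) (fun z hz => by rw [hz]; exact hP.one) ⟨x', hx', hx1, hPx⟩ y' hy'

omit hp in
/-- invariance under isomorphisms -/
theorem FullP.of_mulEquiv {H : Type*} [Group H] (e : H ≃* G) (h : FullP p H) : FullP p G := by
  rintro P hP ⟨x, hx, hx1, hPx⟩ y hy
  have := h _ (hP.comap e.toMonoidHom) ⟨e.symm x, hx.map e.symm.toMonoidHom, fun h2 => hx1 (by
    rw [← e.apply_symm_apply x, h2, map_one]), by
    show P (e (e.symm x)); rwa [e.apply_symm_apply]⟩ (e.symm y) (hy.map e.symm.toMonoidHom)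
  have h3 : P (e (e.symm y)) := this
  rwa [e.apply_symm_apply] at h3

/-- `p`-elements of a finite group are conjugate into a subgroup of index prime to `p` -/
theorem exists_conj_mem [Finite G] (H : Subgroup G) (hH : ¬ p ∣ H.index) {x : G} (hx : PEl p x) :
    ∃ g : G, g * x * g⁻¹ ∈ H := by
  obtain ⟨T⟩ : Nonempty (Sylow p H) := inferInstance
  obtain ⟨S, hS⟩ := (T.2.map H.subtype).exists_le_sylow
  have hcard : Nat.card (S : Subgroup G) = Nat.card ((T : Subgroup H).map H.subtype) := by
    have e1 : Nat.card ((T : Subgroup H).map H.subtype) = Nat.card (T : Subgroup H) :=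
      Nat.card_congr ((T : Subgroup H).equivMapOfInjective H.subtype H.subtype_injective).symm.toEquiv
    rw [e1, Sylow.card_eq_multiplicity, Sylow.card_eq_multiplicity, ← H.card_mul_index]
    congr 1
    rw [Nat.factorization_mul Nat.card_pos.ne' H.index_ne_zero_of_finite, Finsupp.add_apply,
      Nat.factorization_eq_zero_of_not_dvd hH, add_zero]
  have hle : (S : Subgroup G) = (T : Subgroup H).map H.subtype := (Subgroup.eq_of_le_of_card_ge hS hcard.le).symm
  obtain ⟨g, hg⟩ := ClosedTwo.Elem.exists_conj_le S (isPGroup_zpowers hx)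
  refine ⟨g, ?_⟩
  have h1 := hg x (mem_zpowers x)
  rw [hle] at h1
  obtain ⟨y, -, hy⟩ := h1
  rw [← hy]
  exact y.2

end finite

end Cfsg.Agent.H749
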