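import Mathlib
import Cfsg.Agent.H749.PCl
import Cfsg.Agent.FastGrp
import Cfsg.Agent.Prune
set_option linter.all false
prune_inst 0x7f00000000000000000000000000000000000000000000000000000000000000000000000000000000000000000000000000000000000000000000000000000000000000000000000000000000000000003fffffffffffffffffffffffffffbeffbdffffffff
open scoped Cfsg.Agent.FastGrp

-- part: H749/PermGen
section
/-!
# Permutations of `p`-power order and `p`-cycles (helper749)

`perm_gen` : a class of permutations containing the `p`-cycles and closed under products inside `p`-subgroups contains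
every permutation of `p`-power order.
-/

set_option autoImplicit false
set_option linter.unusedSectionVars false

namespace Cfsg.Agent.H749

open Equiv Equiv.Perm

variable {α : Type*} [Fintype α] [DecidableEq α]

/-- splitting off a cycle -/
theorem exists_split {π : Perm α} (hπ : π ≠ 1) : ∃ c π' : Perm α, c.IsCycle ∧ Commute c π' ∧ π = c * π' ∧
    c.Disjoint π' ∧ π'.support.card < π.support.card := by
  obtain ⟨x, hx⟩ : ∃ x, π x ≠ x := by
    by_contra h
    push Not at h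
    exact hπ (Perm.ext h)
  have hc : π.cycleOf x ∈ π.cycleFactorsFinset := cycleOf_mem_cycleFactorsFinset_iff.2 (mem_support.2 hx)
  have hd : _root_.Equiv.Perm.Disjoint (π * (π.cycleOf x)⁻¹) (π.cycleOf x) := disjoint_mul_inv_of_mem_cycleFactorsFinset hc
  have hcy := (mem_cycleFactorsFinset_iff.1 hc).1
  have e : π = π.cycleOf x * (π * (π.cycleOf x)⁻¹) := by
    rw [hd.symm.commute.eq, inv_mul_cancel_right]
  refine ⟨π.cycleOf x, π * (π.cycleOf x)⁻¹, hcy, hd.symm.commute, e, hd.symm, ?_⟩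
  have h1 : (π.cycleOf x * (π * (π.cycleOf x)⁻¹)).support.card = _ := hd.symm.card_support_mul
  rw [← e] at h1
  rw [h1]
  have := hcy.two_le_card_support
  omega

theorem pow_eq_one_of_disjoint {c π' : Perm α} (h : c.Disjoint π') {n : ℕ} (h1 : (c * π') ^ n = 1) :
    c ^ n = 1 ∧ π' ^ n = 1 := by
  rw [h.commute.mul_pow] at h1
  exact (h.pow_disjoint_pow n n).mul_eq_one_iff.1 h1

section cyc

variable {p : ℕ} [hp : Fact p.Prime] {π : Perm α} (x : α)

theorem pow_apply_eq_iff (hπ : π.IsCycle) {x : α} (hx : π x ≠ x) (i : ℤ) :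
    (π ^ i) x = x ↔ (orderOf π : ℤ) ∣ i := by
  constructor
  · intro h
    rw [orderOf_dvd_iff_zpow_eq_one]
    ext y
    rw [Perm.one_apply]
    by_cases hy : π y = y
    · exact Perm.zpow_apply_eq_self_of_apply_eq_self hy i
    · obtain ⟨j, rfl⟩ := hπ.exists_zpow_eq hx hy
      rw [← Perm.mul_apply, ← zpow_add, add_comm, zpow_add, Perm.mul_apply, h]
  · intro h
    rw [orderOf_dvd_iff_zpow_eq_one] at h
    rw [h]
    rfl

/-- the points of the cycle in the orbit of `x` under `π ^ p` -/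
theorem sameCycle_iff (hπ : π.IsCycle) {x : α} (hx : π x ≠ x) (hdvd : p ∣ orderOf π) (i : ℤ) :
    SameCycle (π ^ p) x ((π ^ i) x) ↔ (p : ℤ) ∣ i := by
  constructor
  · rintro ⟨m, hm⟩
    have h1 : (π ^ ((p : ℤ) * m - i)) x = x := by
      rw [sub_eq_neg_add, zpow_add, Perm.mul_apply, zpow_mul, zpow_natCast, hm, ← Perm.mul_apply, ← zpow_add,
        neg_add_cancel, zpow_zero]
      rfl
    rw [pow_apply_eq_iff hπ hx] at h1
    have h2 : (p : ℤ) ∣ (p : ℤ) * m - i := (Int.natCast_dvd_natCast.2 hdvd).trans h1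
    exact (dvd_sub_right (dvd_mul_right _ _)).1 h2
  · rintro ⟨m, rfl⟩
    exact ⟨m, by rw [zpow_mul, zpow_natCast]⟩

/-- the cycle of `π ^ p` through `x` -/
def bt (p : ℕ) (π : Perm α) (x : α) : Perm α := (π ^ p).cycleOf x

theorem bt_inv_apply (hπ : π.IsCycle) {x : α} (hx : π x ≠ x) (hdvd : p ∣ orderOf π) (i : ℤ) :
    (bt p π x)⁻¹ ((π ^ i) x) = if (p : ℤ) ∣ i then (π ^ (i - p)) x else (π ^ i) x := by
  unfold bt
  rw [cycleOf_inv, cycleOf_apply]
  simp only [sameCycle_inv, sameCycle_iff hπ hx hdvd]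
  split_ifs with h
  · rw [← Perm.mul_apply, ← zpow_natCast, ← zpow_neg, ← zpow_add]
    congr 2
    ring
  · rfl

theorem tau_apply (hπ : π.IsCycle) {x : α} (hx : π x ≠ x) (hdvd : p ∣ orderOf π) (i : ℤ) :
    ((bt p π x)⁻¹ * π) ((π ^ i) x) = if (p : ℤ) ∣ i + 1 then (π ^ (i + 1 - p)) x else (π ^ (i + 1)) x := by
  rw [Perm.mul_apply, ← Perm.mul_apply π, ← zpow_one_add, add_comm 1 i, bt_inv_apply hπ hx hdvd]

theorem tau_pow_apply (hπ : π.IsCycle) {x : α} (hx : π x ≠ x) (hdvd : p ∣ orderOf π) (q : ℤ) (r m : ℕ)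
    (h : r + m < p) : (((bt p π x)⁻¹ * π) ^ m) ((π ^ ((p : ℤ) * q + r)) x) = (π ^ ((p : ℤ) * q + r + m)) x := by
  induction m with
  | zero => simp
  | succ m ih =>
    rw [pow_succ', Perm.mul_apply, ih (by omega), tau_apply hπ hx hdvd, if_neg]
    · congr 2
      push_cast
      ring
    · intro h1
      have h2 : (p : ℤ) ∣ ((r + m + 1 : ℕ) : ℤ) := by
        have e : ((r + m + 1 : ℕ) : ℤ) = ((p : ℤ) * q + r + m + 1) - (p : ℤ) * q := by push_cast; ring
        rw [e]
        exact dvd_sub h1 (dvd_mul_right _ _)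
      rw [Int.natCast_dvd_natCast] at h2
      exact absurd (Nat.le_of_dvd (by omega) h2) (by omega)

theorem tau_pow (hπ : π.IsCycle) {x : α} (hx : π x ≠ x) (hdvd : p ∣ orderOf π) :
    ((bt p π x)⁻¹ * π) ^ p = 1 := by
  have hp0 := hp.out.pos
  ext y
  rw [Perm.one_apply]
  by_cases hy : π y = y
  · have h1 : ((bt p π x)⁻¹ * π) y = y := by
      rw [Perm.mul_apply, hy]
      unfold bt
      rw [cycleOf_inv, cycleOf_apply]
      split_ifs
      · rw [Perm.inv_eq_iff_eq]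
        exact (Perm.pow_apply_eq_self_of_apply_eq_self hy p).symm
      · rfl
    exact Perm.pow_apply_eq_self_of_apply_eq_self h1 p
  · obtain ⟨i, rfl⟩ := hπ.exists_zpow_eq hx hy
    obtain ⟨q, r, hr, e⟩ : ∃ (q : ℤ) (r : ℕ), r < p ∧ i = (p : ℤ) * q + r := by
      refine ⟨i / p, (i % p).toNat, ?_, ?_⟩
      · have := Int.emod_lt_of_pos i (by exact_mod_cast hp0 : (0 : ℤ) < p)
        have h0 := Int.emod_nonneg i (by exact_mod_cast hp0.ne' : (p : ℤ) ≠ 0)
        omega
      · have h0 := Int.emod_nonneg i (by exact_mod_cast hp0.ne' : (p : ℤ) ≠ 0)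
        rw [Int.toNat_of_nonneg h0]
        exact (Int.mul_ediv_add_emod i p).symm
    subst e
    have e1 : p = r + (1 + (p - 1 - r)) := by omega
    have e2 : ((bt p π x)⁻¹ * π) ^ p =
        ((bt p π x)⁻¹ * π) ^ r * (((bt p π x)⁻¹ * π) * ((bt p π x)⁻¹ * π) ^ (p - 1 - r)) := by
      rw [← pow_succ', ← pow_add]
      congr 1
      omega
    rw [e2, Perm.mul_apply, Perm.mul_apply, tau_pow_apply hπ hx hdvd q r _ (by omega), tau_apply hπ hx hdvd, if_pos]
    · have h3 := tau_pow_apply hπ hx hdvd q 0 r (by omega)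
      have e3 : ((p : ℤ) * q + r + ((p - 1 - r : ℕ) : ℤ) + 1 - p) = (p : ℤ) * q + ((0 : ℕ) : ℤ) := by
        have : ((p - 1 - r : ℕ) : ℤ) = (p : ℤ) - 1 - r := by omega
        rw [this]; push_cast; ring
      rw [e3, h3]
      congr 2
      push_cast
      ring
    · refine ⟨q + 1, ?_⟩
      have : ((p - 1 - r : ℕ) : ℤ) = (p : ℤ) - 1 - r := by omega
      rw [this]; ring

theorem bt_support_lt (hπ : π.IsCycle) {x : α} (hx : π x ≠ x) (hdvd : p ∣ orderOf π) :
    (bt p π x).support.card < π.support.card := by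
  apply Finset.card_lt_card
  refine ⟨?_, fun h => ?_⟩
  · refine (support_cycleOf_le _ _).trans (support_pow_le _ _)
  · have h1 : π x ∈ (bt p π x).support := h (by
      rw [mem_support]
      intro h2
      exact hx (π.injective h2))
    unfold bt at h1
    rw [mem_support_cycleOf_iff] at h1
    have h2 := (sameCycle_iff hπ hx hdvd 1).1 (by rw [zpow_one]; exact h1.1)
    have h3 : p ∣ 1 := by exact_mod_cast h2
    exact hp.out.one_lt.ne' (Nat.dvd_one.1 h3)

theorem bt_pow {k : ℕ} (h : π ^ p ^ k = 1) (x : α) : (bt p π x) ^ p ^ k = 1 := by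
  rw [← orderOf_dvd_iff_pow_eq_one]
  refine (orderOf_cycleOf_dvd_orderOf _ _).trans ?_
  rw [orderOf_dvd_iff_pow_eq_one, ← pow_mul, mul_comm, pow_mul, h, one_pow]

theorem conj_bt (r : ℤ) (x : α) : π ^ r * bt p π x * (π ^ r)⁻¹ = bt p π ((π ^ r) x) := by
  unfold bt
  have h : (π ^ p) = π ^ r * π ^ p * (π ^ r)⁻¹ := by
    rw [← zpow_natCast, ← zpow_add, ← zpow_neg, ← zpow_add]
    congr 1
    ring
  conv_rhs => rw [h]
  ext y
  rw [Perm.mul_apply, Perm.mul_apply, cycleOf_apply, cycleOf_apply]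
  have h2 : SameCycle (π ^ r * π ^ p * (π ^ r)⁻¹) ((π ^ r) x) y ↔ SameCycle (π ^ p) x ((π ^ r)⁻¹ y) := by
    rw [sameCycle_conj]
    simp
  simp only [h2]
  split_ifs
  · rfl
  · simp

theorem bt_commute (x y : α) : bt p π x * bt p π y = bt p π y * bt p π x := by
  unfold bt
  by_cases h : SameCycle (π ^ p) x y
  · rw [h.cycleOf_eq]
  by_cases hx : (π ^ p) x = x
  · rw [cycleOf_eq_one_iff _ |>.2 hx, one_mul, mul_one]
  by_cases hy : (π ^ p) y = y
  · rw [cycleOf_eq_one_iff _ |>.2 hy, one_mul, mul_one]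
  refine Disjoint.commute ?_
  refine (π ^ p).cycleFactorsFinset_pairwise_disjoint
    (cycleOf_mem_cycleFactorsFinset_iff.2 (mem_support.2 hx))
    (cycleOf_mem_cycleFactorsFinset_iff.2 (mem_support.2 hy)) ?_
  intro e
  apply h
  have h1 : y ∈ ((π ^ p).cycleOf x).support := by
    rw [e, mem_support_cycleOf_iff]
    exact ⟨SameCycle.refl _ _, mem_support.2 hy⟩
  exact (mem_support_cycleOf_iff.1 h1).1

/-- the `p`-group generated by a cycle of `p`-power order and a cycle of its `p`-th power -/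
theorem exists_pGroup {k : ℕ} (h : π ^ p ^ k = 1) (x : α) :
    ∃ Q : Subgroup (Perm α), IsPGroup p Q ∧ π ∈ Q ∧ bt p π x ∈ Q := by
  let K : Subgroup (Perm α) := Subgroup.closure (Set.range fun r : ℤ => bt p π ((π ^ r) x))
  have hK : IsPGroup p K := by
    refine isPGroup_closure ?_ ?_
    · rintro _ ⟨r, rfl⟩
      exact ⟨k, bt_pow h _⟩
    · rintro _ ⟨r, rfl⟩ _ ⟨s, rfl⟩
      exact bt_commute _ _
  have hcj : ∀ i : ℤ, ∀ y ∈ K, π ^ i * y * (π ^ i)⁻¹ ∈ K := by
    intro i y hy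
    induction hy using Subgroup.closure_induction with
    | mem y hy =>
      obtain ⟨r, rfl⟩ := hy
      refine Subgroup.subset_closure ⟨i + r, ?_⟩
      show bt p π ((π ^ (i + r)) x) = _
      rw [conj_bt, zpow_add]
      rfl
    | one => rw [mul_one, mul_inv_cancel]; exact K.one_mem
    | mul a b _ _ ha hb =>
      have e : π ^ i * (a * b) * (π ^ i)⁻¹ = (π ^ i * a * (π ^ i)⁻¹) * (π ^ i * b * (π ^ i)⁻¹) := by group
      rw [e]
      exact K.mul_mem ha hb
    | inv a _ ha =>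
      have e : π ^ i * a⁻¹ * (π ^ i)⁻¹ = (π ^ i * a * (π ^ i)⁻¹)⁻¹ := by group
      rw [e]
      exact K.inv_mem ha
  refine ⟨Subgroup.zpowers π ⊔ K, isPGroup_sup_zpowers ⟨k, h⟩ hK ?_ ?_, ?_, ?_⟩
  · intro y hy
    have := hcj 1 y hy
    rwa [zpow_one] at this
  · intro y hy
    have := hcj (-1) y hy
    rwa [zpow_neg, zpow_one, inv_inv] at this
  · exact Subgroup.mem_sup_left (Subgroup.mem_zpowers π)
  · refine Subgroup.mem_sup_right (Subgroup.subset_closure ⟨0, ?_⟩)
    simp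

end cyc

variable {p : ℕ} [hp : Fact p.Prime]

/-- **Permutations of `p`-power order**: a class containing the `p`-cycles and closed under products inside `p`-subgroups
contains them all. -/
theorem perm_gen {P : Perm α → Prop} (h1 : P 1)
    (hmul : ∀ Q : Subgroup (Perm α), IsPGroup p Q → ∀ x ∈ Q, ∀ y ∈ Q, P x → P y → P (x * y))
    (hc : ∀ c : Perm α, c.IsCycle → c.support.card = p → P c) (π : Perm α) (hπ : PEl p π) : P π := by
  have hpair : ∀ a b : Perm α, PEl p a → PEl p b → Commute a b → P a → P b → P (a * b) := fun a b ha hb hab h2 h3 =>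
    hmul _ (isPGroup_pair ha hb hab) a (Subgroup.subset_closure (by simp)) b (Subgroup.subset_closure (by simp)) h2 h3
  -- elements of order `p`
  have hA : ∀ (n : ℕ) (π : Perm α), π.support.card = n → π ^ p = 1 → P π := by
    intro n
    induction n using Nat.strong_induction_on with
    | _ n ih =>
      intro π hn hπ
      by_cases h : π = 1
      · rw [h]; exact h1
      obtain ⟨c, π', hcy, hcom, e, hd, hlt⟩ := exists_split h
      have h2 := pow_eq_one_of_disjoint hd (n := p) (by rw [← e]; exact hπ)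
      rw [e]
      refine hpair c π' ⟨1, by rw [pow_one]; exact h2.1⟩ ⟨1, by rw [pow_one]; exact h2.2⟩ hcom ?_
        (ih _ (hn ▸ hlt) π' rfl h2.2)
      refine hc c hcy ?_
      rw [← hcy.orderOf]
      exact orderOf_eq_prime h2.1 hcy.ne_one
  have hB : ∀ (n : ℕ) (π : Perm α), π.support.card = n → PEl p π → P π := by
    intro n
    induction n using Nat.strong_induction_on with
    | _ n ih =>
      rintro π hn ⟨k, hk⟩
      by_cases h : π = 1
      · rw [h]; exact h1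
      obtain ⟨c, π', hcy, hcom, e, hd, hlt⟩ := exists_split h
      have h2 := pow_eq_one_of_disjoint hd (n := p ^ k) (by rw [← e]; exact hk)
      by_cases h3 : π' = 1
      · rw [h3, mul_one] at e
        subst e
        -- a single cycle
        obtain ⟨x, hx⟩ := hcy.nonempty_support
        rw [mem_support] at hx
        have hdvd : p ∣ orderOf π := by
          obtain ⟨j, -, hj⟩ := (Nat.dvd_prime_pow hp.out).1 (orderOf_dvd_of_pow_eq_one hk)
          rcases j with _ | j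
          · exact absurd (orderOf_eq_one_iff.1 (by rw [hj, pow_zero])) h
          · rw [hj]; exact dvd_pow_self p (Nat.succ_ne_zero j)
        obtain ⟨Q, hQ, hπQ, hbQ⟩ := exists_pGroup (p := p) hk x
        have e2 : π = bt p π x * ((bt p π x)⁻¹ * π) := by rw [mul_inv_cancel_left]
        rw [e2]
        refine hmul Q hQ _ hbQ _ (Q.mul_mem (Q.inv_mem hbQ) hπQ) ?_ (hA _ _ rfl (tau_pow hcy hx hdvd))
        exact ih _ (by rw [← hn]; exact bt_support_lt hcy hx hdvd) _ rfl ⟨k, bt_pow hk x⟩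
      · rw [e]
        have h4 : c.support.card < n := by
          rw [← hn, e, hd.card_support_mul]
          have : 0 < π'.support.card := Finset.card_pos.2 (by
            rw [Finset.nonempty_iff_ne_empty, Ne, support_eq_empty_iff]
            exact h3)
          omega
        exact hpair c π' ⟨k, h2.1⟩ ⟨k, h2.2⟩ hcom (ih _ h4 c rfl ⟨k, h2.1⟩) (ih _ (hn ▸ hlt) π' rfl ⟨k, h2.2⟩)
  exact hB _ π rfl hπ

end Cfsg.Agent.H749
end

-- part: H749/MonCore
section
/-!
# The monomial core (helper749)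

`μ` an abelian `p`-group in which every nontrivial subgroup contains the elements of order `p`, `D0 ι μ` the functions
`ι → μ` with product `1`, `Mon p ι μ G` : homomorphisms `δ : D0 ι μ →* G`, `ρ : Alt(ι) →* G` with the monomial relations
and the fusion of a `p`-cycle to a diagonal element. `Mon.full` : a class of elements of `G` closed under conjugation,
inverses and products inside `p`-subgroups, which contains a nonscalar `p`-element `δ a * ρ π`, contains all these elements.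
-/

set_option autoImplicit false
set_option linter.unusedSectionVars false

namespace Cfsg.Agent.H749

open Equiv Equiv.Perm

section D0

variable (ι μ : Type*) [Fintype ι] [DecidableEq ι] [CommGroup μ]

/-- the functions with product one -/
def D0 : Subgroup (ι → μ) where
  carrier := {a | ∏ i, a i = 1}
  one_mem' := by simp only [_root_.Set.mem_ofPred_eq, _root_.Pi.one_apply, _root_.Finset.prod_const_one]
  mul_mem' := by
    intro a b ha hb
    simp only [Set.mem_ofPred_eq] at ha hb ⊢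
    simp only [Finset.prod_mul_distrib, ha, hb, _root_.Pi.mul_apply, _root_.mul_one]
  inv_mem' := by
    intro a ha
    simp only [Set.mem_ofPred_eq] at ha ⊢
    simp [ha]

variable {ι μ}

theorem mem_D0 {a : ι → μ} : a ∈ D0 ι μ ↔ ∏ i, a i = 1 := Iff.rfl

/-- permuting the coordinates -/
def act (π : Perm ι) (a : D0 ι μ) : D0 ι μ :=
  ⟨fun i => a.1 (π.symm i), by
    rw [mem_D0, Equiv.prod_comp π.symm (fun i => a.1 i)]
    exact mem_D0.1 a.2⟩

theorem act_apply (π : Perm ι) (a : D0 ι μ) (i : ι) : (act π a).1 i = a.1 (π.symm i) := rfl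

/-- `m` at `i`, `m⁻¹` at `j` -/
def ed (i j : ι) (_h : i ≠ j) (m : μ) : D0 ι μ :=
  ⟨Pi.mulSingle i m * Pi.mulSingle j m⁻¹, by
    rw [mem_D0]
    simp only [Pi.mul_apply, Finset.prod_mul_distrib]
    rw [Finset.prod_eq_single i, Finset.prod_eq_single j]
    · simp
    · intro b _ hb; simp [hb]
    · simp only [_root_.Finset.mem_univ, _root_.not_true_eq_false, _root_.Pi.mulSingle_eq_same, _root_.inv_eq_one, _root_.IsEmpty.forall_iff]
    · intro b _ hb; simp [hb]
    · simp only [_root_.Finset.mem_univ, _root_.not_true_eq_false, _root_.Pi.mulSingle_eq_same, _root_.IsEmpty.forall_iff]⟩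

theorem ed_left {i j : ι} (h : i ≠ j) (m : μ) : (ed i j h m).1 i = m := by
  simp [ed, Pi.mulSingle_eq_of_ne h]

theorem ed_right {i j : ι} (h : i ≠ j) (m : μ) : (ed i j h m).1 j = m⁻¹ := by
  simp [ed, Pi.mulSingle_eq_of_ne h.symm]

theorem ed_other {i j : ι} (h : i ≠ j) (m : μ) {l : ι} (h1 : l ≠ i) (h2 : l ≠ j) : (ed i j h m).1 l = 1 := by
  simp [ed, Pi.mulSingle_eq_of_ne h1, Pi.mulSingle_eq_of_ne h2]

theorem ed_mul {i j : ι} (h : i ≠ j) (m m' : μ) : ed i j h (m * m') = ed i j h m * ed i j h m' := by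
  apply Subtype.ext
  funext l
  show (ed i j h (m * m')).1 l = (ed i j h m).1 l * (ed i j h m').1 l
  by_cases h1 : l = i
  · subst h1; rw [ed_left, ed_left, ed_left]
  by_cases h2 : l = j
  · subst h2; rw [ed_right, ed_right, ed_right, mul_inv]
  rw [ed_other h _ h1 h2, ed_other h _ h1 h2, ed_other h _ h1 h2, mul_one]

theorem ed_one {i j : ι} (h : i ≠ j) : ed i j h (1 : μ) = 1 := by
  have := ed_mul h (1 : μ) 1
  rw [mul_one] at this
  exact (mul_eq_left.1 this.symm)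

theorem ed_pow {i j : ι} (h : i ≠ j) (m : μ) (n : ℕ) : ed i j h (m ^ n) = ed i j h m ^ n := by
  induction n with
  | zero => rw [pow_zero, pow_zero, ed_one]
  | succ n ih => rw [pow_succ, pow_succ, ed_mul, ih]

theorem act_ed (π : Perm ι) {i j : ι} (h : i ≠ j) (m : μ) :
    act π (ed i j h m) = ed (π i) (π j) (fun e => h (π.injective e)) m := by
  apply Subtype.ext
  funext l
  rw [act_apply]
  by_cases h1 : l = π i
  · subst h1; rw [Equiv.symm_apply_apply, ed_left, ed_left]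
  by_cases h2 : l = π j
  · subst h2; rw [Equiv.symm_apply_apply, ed_right, ed_right]
  rw [ed_other _ _ h1 h2, ed_other]
  · exact fun e => h1 (by rw [← e, Equiv.apply_symm_apply])
  · exact fun e => h2 (by rw [← e, Equiv.apply_symm_apply])

theorem act_swap {i j : ι} (h : i ≠ j) (b : D0 ι μ) :
    act (swap i j) b * b⁻¹ = ed i j h (b.1 j * (b.1 i)⁻¹) := by
  apply Subtype.ext
  funext l
  show (act (swap i j) b).1 l * (b.1 l)⁻¹ = _
  rw [act_apply, symm_swap]
  by_cases h1 : l = i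
  · subst h1; rw [swap_apply_left, ed_left]
  by_cases h2 : l = j
  · subst h2; rw [swap_apply_right, ed_right, mul_inv, inv_inv, mul_comm]
  rw [ed_other _ _ h1 h2, swap_apply_of_ne_of_ne h1 h2, mul_inv_cancel]

/-- the decomposition of an element of `D0` -/
theorem eq_prod_ed (i₀ : ι) (a : D0 ι μ) :
    a = ∏ j : {j : ι // j ≠ i₀}, ed j.1 i₀ j.2 (a.1 j.1) := by
  apply Subtype.ext
  funext l
  have e : ((∏ j : {j : ι // j ≠ i₀}, ed j.1 i₀ j.2 (a.1 j.1) : D0 ι μ) : ι → μ) l =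
      ∏ j : {j : ι // j ≠ i₀}, (ed j.1 i₀ j.2 (a.1 j.1)).1 l := by
    rw [Subgroup.val_finsetProd, Finset.prod_apply]
  rw [e]
  by_cases h : l = i₀
  · subst h
    simp only [ed_right]
    rw [Finset.prod_inv_distrib, eq_inv_iff_mul_eq_one]
    have h1 := mem_D0.1 a.2
    rw [← Fintype.prod_eq_mul_prod_subtype_ne (fun i => a.1 i) l]
    exact h1
  · rw [Finset.prod_eq_single ⟨l, h⟩]
    · rw [ed_left]
    · rintro ⟨b, hb⟩ - hne
      refine ed_other _ _ (fun e => hne (Subtype.ext e.symm)) h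
    · simp only [_root_.ne_eq, _root_.Finset.mem_univ, _root_.not_true_eq_false, _root_.IsEmpty.forall_iff]

end D0

/-- monomial data in the group `G` -/
structure Mon (p : ℕ) (ι μ : Type*) [Fintype ι] [DecidableEq ι] [CommGroup μ] (G : Type*) [Group G] where
  δ : D0 ι μ →* G
  ρ : alternatingGroup ι →* G
  conj : ∀ (π : alternatingGroup ι) (a : D0 ι μ), ρ π * δ a * (ρ π)⁻¹ = δ (act π.1 a)
  swap : ∀ π : Perm ι, ∃ g : G, ∀ a : D0 ι μ, g * δ a * g⁻¹ = δ (act π a)
  fus : ∀ c : alternatingGroup ι, c.1.IsCycle → c.1.support.card = p →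
    ∃ a : D0 ι μ, a ^ p = 1 ∧ (∃ i j, a.1 i ≠ a.1 j) ∧ ∃ g : G, g * ρ c * g⁻¹ = δ a
  three : Fintype.card ι = 3 → ∀ c : alternatingGroup ι, c.1.IsCycle → c.1.support.card = 3 → ∀ a : D0 ι μ,
    ∃ g : G, g * (δ a * ρ c) * g⁻¹ = ρ c

namespace Mon

variable {p : ℕ} [hp : Fact p.Prime] {ι μ : Type*} [Fintype ι] [DecidableEq ι] [CommGroup μ] {G : Type*} [Group G]
  (M : Mon p ι μ G)

/-- the permutations of `p`-power order are even -/
theorem mem_alt (hp2 : p ≠ 2) {π : Perm ι} (h : PEl p π) : π ∈ alternatingGroup ι := by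
  rw [Perm.mem_alternatingGroup]
  obtain ⟨k, hk⟩ := h
  have h1 : (Perm.sign π) ^ p ^ k = 1 := by rw [← map_pow, hk, map_one]
  have hodd : Odd (p ^ k) := (hp.out.odd_of_ne_two hp2).pow
  rcases Int.units_eq_one_or (Perm.sign π) with h2 | h2
  · exact h2
  · rw [h2, hodd.neg_one_pow] at h1
    exact absurd h1 (by decide)

section

variable (hμ : ∀ m : μ, PEl p m)

include hμ

theorem pEl_D0 (a : D0 ι μ) : PEl p a := by
  choose k hk using hμ
  refine ⟨∑ i, k (a.1 i), Subtype.ext (funext fun i => ?_)⟩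
  show a.1 i ^ p ^ (∑ i, k (a.1 i)) = 1
  have h1 : k (a.1 i) ≤ ∑ i, k (a.1 i) := Finset.single_le_sum (f := fun i => k (a.1 i)) (fun _ _ => Nat.zero_le _)
    (Finset.mem_univ i)
  obtain ⟨c, hc⟩ := Nat.exists_eq_add_of_le h1
  rw [hc, pow_add, pow_mul, hk, one_pow]

theorem isPGroup_range : IsPGroup p M.δ.range := by
  rw [isPGroup_iff]
  rintro _ ⟨a, rfl⟩
  exact (pEl_D0 hμ a).map M.δ

/-- `D0 <π>` is a `p`-group -/
theorem isPGroup_mon {π : alternatingGroup ι} (hπ : PEl p π) :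
    IsPGroup p ↥(Subgroup.zpowers (M.ρ π) ⊔ M.δ.range) := by
  refine isPGroup_sup_zpowers (hπ.map M.ρ) (M.isPGroup_range hμ) ?_ ?_
  · rintro _ ⟨a, rfl⟩
    exact ⟨_, (M.conj π a).symm⟩
  · rintro _ ⟨a, rfl⟩
    have := M.conj π⁻¹ a
    rw [map_inv, inv_inv] at this
    exact ⟨_, this.symm⟩

variable {P : G → Prop} (hP : PCl p P)

include hP

theorem ed_of_mem {b : D0 ι μ} (h : P (M.δ b)) {i j : ι} (hij : i ≠ j) :
    P (M.δ (ed i j hij (b.1 j * (b.1 i)⁻¹))) := by
  obtain ⟨g, hg⟩ := M.swap (Equiv.swap i j)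
  rw [← act_swap hij b, map_mul, map_inv]
  refine hP.mul (M.isPGroup_range hμ) ⟨_, rfl⟩ (Subgroup.inv_mem _ ⟨_, rfl⟩) ?_ (hP.inv h)
  rw [← hg]
  exact hP.conj g h

omit hμ hP [Fintype ι] in
theorem exists_perm {i j i' j' : ι} (h : i ≠ j) (h' : i' ≠ j') : ∃ π : Perm ι, π i = i' ∧ π j = j' := by
  refine ⟨Equiv.swap (Equiv.swap i i' j) j' * Equiv.swap i i', ?_, ?_⟩
  · rw [Perm.mul_apply, swap_apply_left, swap_apply_of_ne_of_ne _ h']
    intro e
    have h1 : Equiv.swap i i' i = Equiv.swap i i' j := by rw [swap_apply_left]; exact e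
    exact h ((Equiv.swap i i').injective h1)
  · rw [Perm.mul_apply, swap_apply_left]

omit hμ in
theorem ed_all {m : μ} {i j : ι} (hij : i ≠ j) (h : P (M.δ (ed i j hij m))) {i' j' : ι} (hij' : i' ≠ j') :
    P (M.δ (ed i' j' hij' m)) := by
  obtain ⟨π, rfl, rfl⟩ := exists_perm hij hij'
  obtain ⟨g, hg⟩ := M.swap π
  have e := act_ed π hij m
  rw [← e, ← hg]
  exact hP.conj g h

/-- the elements of `D0` all of whose coordinates are admissible -/
theorem delta_of (i₀ : ι) {a : D0 ι μ} (h : ∀ j (hj : j ≠ i₀), P (M.δ (ed j i₀ hj (a.1 j)))) : P (M.δ a) := by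
  let N : Subgroup (D0 ι μ) :=
    { carrier := {a | P (M.δ a)}
      one_mem' := by show P (M.δ 1); rw [map_one]; exact hP.one
      mul_mem' := by
        intro a b ha hb
        show P (M.δ (a * b))
        rw [map_mul]
        exact hP.mul (M.isPGroup_range hμ) ⟨_, rfl⟩ ⟨_, rfl⟩ ha hb
      inv_mem' := by
        intro a ha
        show P (M.δ a⁻¹)
        rw [map_inv]
        exact hP.inv ha }
  have : a ∈ N := by
    rw [eq_prod_ed i₀ a]
    exact Subgroup.prod_mem _ fun j _ => h j.1 j.2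
  exact this

variable (hcyc : ∀ m : μ, m ≠ 1 → ∀ z : μ, z ^ p = 1 → ∃ n : ℕ, z = m ^ n)

include hcyc

/-- the elements of order `p` of `D0` -/
theorem omega_of {b : D0 ι μ} (h : P (M.δ b)) {i j : ι} (hb : b.1 i ≠ b.1 j) {a : D0 ι μ} (ha : a ^ p = 1) :
    P (M.δ a) := by
  have hij : i ≠ j := fun e => hb (by rw [e])
  refine M.delta_of hμ hP i fun l hl => ?_
  have h1 := M.ed_of_mem hμ hP h hij
  have hne : b.1 j * (b.1 i)⁻¹ ≠ 1 := fun e => hb (mul_inv_eq_one.1 e).symm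
  obtain ⟨n, hn⟩ := hcyc _ hne (a.1 l) (by
    have := congrFun (congrArg Subtype.val ha) l
    simpa only [_root_.SubmonoidClass.coe_pow, _root_.Pi.pow_apply, _root_.OneMemClass.coe_one, _root_.Pi.one_apply] using this)
  rw [hn, ed_pow, map_pow]
  exact hP.pow ((pEl_D0 hμ _).map M.δ) (M.ed_all hP hij h1 hl) n

/-- the commutator computation -/
theorem comm_mem {a : D0 ι μ} {π : alternatingGroup ι} (hπ : PEl p π) (h : P (M.δ a * M.ρ π)) (d : D0 ι μ) :
    P (M.δ (d * (act π.1 d)⁻¹)) := by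
  have hQ := M.isPGroup_mon hμ hπ
  have hδ : ∀ b, M.δ b ∈ Subgroup.zpowers (M.ρ π) ⊔ M.δ.range := fun b => Subgroup.mem_sup_right ⟨b, rfl⟩
  have hρ : M.ρ π ∈ Subgroup.zpowers (M.ρ π) ⊔ M.δ.range := Subgroup.mem_sup_left (Subgroup.mem_zpowers _)
  have h1 := hP.comm hQ (hδ d) (Subgroup.mul_mem _ (hδ a) hρ) h
  have e : M.δ d * (M.δ a * M.ρ π) * (M.δ d)⁻¹ * (M.δ a * M.ρ π)⁻¹ = M.δ (d * (act π.1 d)⁻¹) := by
    rw [mul_inv_rev, map_mul, map_inv, ← M.conj π d]
    have h2 : M.δ a * (M.ρ π * (M.δ d)⁻¹ * (M.ρ π)⁻¹) = (M.ρ π * (M.δ d)⁻¹ * (M.ρ π)⁻¹) * M.δ a := by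
      have h3 : M.ρ π * (M.δ d)⁻¹ * (M.ρ π)⁻¹ = M.δ (act π.1 d⁻¹) := by rw [← M.conj, map_inv]
      rw [h3, ← map_mul, ← map_mul, mul_comm]
    calc M.δ d * (M.δ a * M.ρ π) * (M.δ d)⁻¹ * ((M.ρ π)⁻¹ * (M.δ a)⁻¹)
        = M.δ d * (M.δ a * (M.ρ π * (M.δ d)⁻¹ * (M.ρ π)⁻¹)) * (M.δ a)⁻¹ := by group
      _ = M.δ d * (M.ρ π * (M.δ d)⁻¹ * (M.ρ π)⁻¹) := by rw [h2]; group
      _ = _ := by group
  rwa [e] at h1

omit hμ hP hcyc in
theorem three_points (hp2 : p ≠ 2) {π : Perm ι} (hπ : PEl p π) {i : ι} (hi : π i ≠ i) : π (π i) ≠ i := by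
  intro h
  obtain ⟨k, hk⟩ := hπ
  have hodd : Odd (p ^ k) := (hp.out.odd_of_ne_two hp2).pow
  obtain ⟨m, hm⟩ := hodd
  have h2 : (π ^ (2 * m)) i = i := by
    rw [pow_mul]
    apply Perm.pow_apply_eq_self_of_apply_eq_self
    rw [pow_two, Perm.mul_apply, h]
  rw [hm, pow_succ'] at hk
  have h3 := congrArg (fun σ : Perm ι => σ i) hk
  simp only [Perm.mul_apply, h2, Perm.one_apply] at h3
  exact hi h3

omit hμ hP hcyc in
/-- values of `d / π d` for `d = ed i (π i) m` -/
theorem comm_values {π : Perm ι} {i : ι} (hi : i ≠ π i) (h3 : π (π i) ≠ i) (m : μ) :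
    (ed i (π i) hi m * (act π (ed i (π i) hi m))⁻¹).1 i = m ∧
      ∀ l, l ≠ i → l ≠ π i → l ≠ π (π i) → (ed i (π i) hi m * (act π (ed i (π i) hi m))⁻¹).1 l = 1 := by
  rw [act_ed]
  have h5 : ∀ l, (ed i (π i) hi m * (ed (π i) (π (π i)) (fun e => hi (π.injective e)) m)⁻¹).1 l =
      (ed i (π i) hi m).1 l * ((ed (π i) (π (π i)) (fun e => hi (π.injective e)) m).1 l)⁻¹ := fun l => rfl
  refine ⟨?_, fun l h1 h2 h4 => ?_⟩
  · rw [h5, ed_left, ed_other _ _ hi h3.symm, inv_one, mul_one]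
  · rw [h5, ed_other _ _ h1 h2, ed_other _ _ h2 h4, inv_one, mul_one]

omit hμ hP hcyc in
theorem exists_fourth (h : 4 ≤ Fintype.card ι) (i j k : ι) : ∃ l, l ≠ i ∧ l ≠ j ∧ l ≠ k := by
  by_contra hc
  push Not at hc
  have h1 : (Finset.univ : Finset ι) ⊆ {i, j, k} := by
    intro l _
    by_cases h1 : l = i
    · simp [h1]
    by_cases h2 : l = j
    · simp [h2]
    simp [hc l h1 h2]
  have h2 := (Finset.card_le_card h1).trans Finset.card_le_three
  rw [Finset.card_univ] at h2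
  omega

/-- **The monomial core.** -/
theorem full (hp2 : p ≠ 2) (hcard : p ≤ Fintype.card ι) {ζ : μ} (hζ1 : ζ ≠ 1)
    {a : D0 ι μ} {π : alternatingGroup ι} (hπ : PEl p π) (h : P (M.δ a * M.ρ π))
    (hns : π ≠ 1 ∨ ∃ i j, a.1 i ≠ a.1 j) (a' : D0 ι μ) (π' : alternatingGroup ι) (hπ' : PEl p π') :
    P (M.δ a' * M.ρ π') := by
  have hp3 : 3 ≤ p := by
    have := hp.out.two_le
    omega
  -- a nonconstant diagonal element
  obtain ⟨b, hb, i, j, hij⟩ : ∃ b : D0 ι μ, P (M.δ b) ∧ ∃ i j, b.1 i ≠ b.1 j := by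
    by_cases h1 : π = 1
    · rcases hns with h2 | ⟨i, j, h2⟩
      · exact absurd h1 h2
      · rw [h1, map_one, mul_one] at h
        exact ⟨a, h, i, j, h2⟩
    · obtain ⟨i, hi⟩ : ∃ i, π.1 i ≠ i := by
        by_contra hc
        push Not at hc
        exact h1 (Subtype.ext (Perm.ext hc))
      have hπ1 : PEl p π.1 := hπ.map (alternatingGroup ι).subtype
      have h3 := three_points hp2 hπ1 hi
      by_cases h4 : 4 ≤ Fintype.card ι
      · obtain ⟨l, hl1, hl2, hl3⟩ := exists_fourth h4 i (π.1 i) (π.1 (π.1 i))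
        refine ⟨_, M.comm_mem hμ hP hcyc hπ h (ed i (π.1 i) hi.symm ζ), i, l, ?_⟩
        obtain ⟨e1, e2⟩ := comm_values hi.symm h3 ζ
        rw [e1, e2 l hl1 hl2 hl3]
        exact hζ1
      · have h5 : Fintype.card ι = 3 := by omega
        have hp3' : p = 3 := by omega
        have hc3 : π.1.IsCycle ∧ π.1.support.card = 3 := by
          have h6 : 3 ≤ π.1.support.card := by
            have : ({i, π.1 i, π.1 (π.1 i)} : Finset ι) ⊆ π.1.support := by
              intro x hx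
              simp only [Finset.mem_insert, Finset.mem_singleton] at hx
              rw [mem_support]
              rcases hx with rfl | rfl | rfl
              · exact hi
              · exact fun e => hi (π.1.injective e)
              · exact fun e => hi (π.1.injective (π.1.injective e))
            refine le_trans (le_of_eq ?_) (Finset.card_le_card this)
            rw [Finset.card_eq_three.2 ⟨i, π.1 i, π.1 (π.1 i), hi.symm, h3.symm, fun e => hi (π.1.injective e.symm), rfl⟩]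
          have h7 : π.1.support.card = 3 := le_antisymm (h5 ▸ Finset.card_le_univ _) h6
          exact ⟨(card_support_eq_three_iff.1 h7).isCycle, h7⟩
        obtain ⟨g, hg⟩ := M.three h5 π hc3.1 hc3.2 a
        have h8 : P (M.ρ π) := by rw [← hg]; exact hP.conj g h
        obtain ⟨b, -, hb, g', hg'⟩ := M.fus π hc3.1 (hc3.2.trans hp3'.symm)
        exact ⟨b, by rw [← hg']; exact hP.conj g' h8, hb⟩
  -- the elements of order `p`
  have hΩ : ∀ a : D0 ι μ, a ^ p = 1 → P (M.δ a) := fun a ha => M.omega_of hμ hP hcyc hb hij ha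
  -- the `p`-cycles
  have hcy : ∀ c : alternatingGroup ι, c.1.IsCycle → c.1.support.card = p → P (M.ρ c) := by
    intro c hc1 hc2
    obtain ⟨a, ha, -, g, hg⟩ := M.fus c hc1 hc2
    exact hP.of_conj (g := g) (by rw [hg]; exact hΩ a ha)
  -- a `p`-cycle
  obtain ⟨c, hc1, hc2⟩ : ∃ c : Perm ι, c.IsCycle ∧ c.support.card = p := by
    obtain ⟨s, hs⟩ : ∃ s : Finset ι, s.card = p := Finset.exists_subset_card_eq (s := Finset.univ)
      (by rw [Finset.card_univ]; exact hcard) |>.imp fun s hs => hs.2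
    obtain ⟨c, hc, hcs⟩ := Finset.exists_cycleOn s
    have hnt : s.Nontrivial := Finset.one_lt_card_iff_nontrivial.1 (by rw [hs]; exact hp.out.one_lt)
    refine ⟨c, ?_, ?_⟩
    · rw [isCycle_iff_exists_isCycleOn]
      exact ⟨s, by exact_mod_cast hnt, hc, fun x hx => hcs (mem_support.2 hx)⟩
    · rw [← hs]
      congr 1
      refine le_antisymm hcs fun x hx => ?_
      rw [mem_support]
      exact hc.apply_ne (by exact_mod_cast hnt) (by exact_mod_cast hx)
  have hcp : PEl p c := ⟨1, by rw [pow_one, ← hc2, ← hc1.orderOf]; exact pow_orderOf_eq_one c⟩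
  have hcA : c ∈ alternatingGroup ι := mem_alt hp2 hcp
  have hcp' : PEl p (⟨c, hcA⟩ : alternatingGroup ι) := PEl.of_map (alternatingGroup ι).subtype_injective hcp
  have hPc := hcy ⟨c, hcA⟩ hc1 hc2
  -- all of `D0`
  have hD : ∀ a : D0 ι μ, P (M.δ a) := by
    by_cases h4 : 4 ≤ Fintype.card ι
    · obtain ⟨i, hi⟩ : ∃ i, c i ≠ i := by
        obtain ⟨i, hi, -⟩ := hc1
        exact ⟨i, hi⟩
      have h3 := three_points hp2 hcp hi
      obtain ⟨l, hl1, hl2, hl3⟩ := exists_fourth h4 i (c i) (c (c i))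
      intro a
      refine M.delta_of hμ hP i fun j hj => ?_
      have h6 := M.comm_mem (a := 1) hμ hP hcyc hcp' (by rw [map_one, one_mul]; exact hPc)
        (ed i (c i) hi.symm (a.1 j)⁻¹)
      have h7 := M.ed_of_mem hμ hP h6 hl1.symm
      obtain ⟨e1, e2⟩ := comm_values hi.symm h3 (a.1 j)⁻¹
      have e3 := e2 l hl1 hl2 hl3
      change P (M.δ (ed i l _ ((ed i (c i) hi.symm (a.1 j)⁻¹ * (act c (ed i (c i) hi.symm (a.1 j)⁻¹))⁻¹).1 l *
        ((ed i (c i) hi.symm (a.1 j)⁻¹ * (act c (ed i (c i) hi.symm (a.1 j)⁻¹))⁻¹).1 i)⁻¹))) at h7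
      rw [e1, e3, one_mul, inv_inv] at h7
      exact M.ed_all hP _ h7 hj
    · have h5 : Fintype.card ι = 3 := by omega
      have hp3' : p = 3 := by omega
      intro a
      obtain ⟨g, hg⟩ := M.three h5 ⟨c, hcA⟩ hc1 (hc2.trans hp3') a
      have h6 : P (M.δ a * M.ρ ⟨c, hcA⟩) := hP.of_conj (g := g) (by rw [hg]; exact hPc)
      have hQ := M.isPGroup_mon hμ hcp'
      have hδ : M.δ a ∈ Subgroup.zpowers (M.ρ ⟨c, hcA⟩) ⊔ M.δ.range := Subgroup.mem_sup_right ⟨a, rfl⟩
      have hρ : M.ρ ⟨c, hcA⟩ ∈ Subgroup.zpowers (M.ρ ⟨c, hcA⟩) ⊔ M.δ.range :=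
        Subgroup.mem_sup_left (Subgroup.mem_zpowers _)
      have h7 := hP.mul hQ (Subgroup.mul_mem _ hδ hρ) (Subgroup.inv_mem _ hρ) h6 (hP.inv hPc)
      rwa [mul_inv_cancel_right] at h7
  -- the permutations
  have hperm : ∀ π : Perm ι, PEl p π → ∀ hA : π ∈ alternatingGroup ι, P (M.ρ ⟨π, hA⟩) := by
    have key := perm_gen (p := p) (P := fun π : Perm ι => ∀ hA : π ∈ alternatingGroup ι, P (M.ρ ⟨π, hA⟩)) ?_ ?_ ?_
    · exact key
    · intro hA
      have : (⟨1, hA⟩ : alternatingGroup ι) = 1 := rfl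
      rw [this, map_one]
      exact hP.one
    · intro Q hQ x hx y hy h1 h2 hA
      have hxA : x ∈ alternatingGroup ι := mem_alt hp2 (PEl.of_isPGroup hQ hx)
      have hyA : y ∈ alternatingGroup ι := mem_alt hp2 (PEl.of_isPGroup hQ hy)
      have e : (⟨x * y, hA⟩ : alternatingGroup ι) = ⟨x, hxA⟩ * ⟨y, hyA⟩ := rfl
      rw [e, map_mul]
      have hQ' : IsPGroup p (Q.comap (alternatingGroup ι).subtype) := hQ.comap_subtype
      exact hP.mul (hQ'.map M.ρ) ⟨⟨x, hxA⟩, hx, rfl⟩ ⟨⟨y, hyA⟩, hy, rfl⟩ (h1 hxA) (h2 hyA)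
    · intro c h1 h2 hA
      exact hcy ⟨c, hA⟩ h1 h2
  refine hP.mul (M.isPGroup_mon hμ hπ') (Subgroup.mem_sup_right ⟨a', rfl⟩)
    (Subgroup.mem_sup_left (Subgroup.mem_zpowers _)) (hD a') ?_
  exact hperm π'.1 (hπ'.map (alternatingGroup ι).subtype) π'.2

end

end Mon

end Cfsg.Agent.H749
end

-- part: H749/MonG
section
/-!
# The monomial core with twisting (helper749)

`MonG p ι μ G` : homomorphisms `δ : (ι → μ) →* G`, `ρ : Alt(ι) →* G` with the monomial relations, the fusion of a `p`-cycle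
to a diagonal element, and elements raising two given coordinates to the powers `t`, `t'`, `t' - 1` prime to `p`.
`MonG.full` : a class of elements of `G` closed under conjugation, inverses and products inside `p`-subgroups, which contains
a nontrivial `p`-element `δ a * ρ π`, contains all these elements. `MonG.fullP` : `FullP p G` if the order of `G` fits.
-/

set_option autoImplicit false
set_option linter.unusedSectionVars false

namespace Cfsg.Agent.H749

open Equiv Equiv.Perm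

/-- monomial data with twisting in the group `G` -/
structure MonG (p : ℕ) (ι μ : Type*) [Fintype ι] [DecidableEq ι] [CommGroup μ] (G : Type*) [Group G] where
  δ : (ι → μ) →* G
  ρ : alternatingGroup ι →* G
  conj : ∀ (π : alternatingGroup ι) (a : ι → μ), ρ π * δ a * (ρ π)⁻¹ = δ (fun i => a (π.1.symm i))
  fus : ∀ c : alternatingGroup ι, c.1.IsCycle → c.1.support.card = p →
    ∃ a : ι → μ, a ^ p = 1 ∧ ∃ g : G, g * ρ c * g⁻¹ = δ a
  t : ℤ
  t' : ℤ
  ht' : ∀ m : μ, ∃ n : ℤ, (m ^ (t' - 1)) ^ n = m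
  tw : ∀ i j : ι, i ≠ j → ∃ g : G, ∀ a : ι → μ,
    g * δ a * g⁻¹ = δ (fun l => if l = i then a l ^ t else if l = j then a l ^ t' else a l)

namespace MonG

variable {p : ℕ} [hp : Fact p.Prime] {ι μ : Type*} [Fintype ι] [DecidableEq ι] [CommGroup μ] {G : Type*} [Group G]
  (M : MonG p ι μ G)

omit [Fintype ι] in
theorem exists_third [Fintype ι] (h : 3 ≤ Fintype.card ι) (i j : ι) : ∃ l, l ≠ i ∧ l ≠ j := by
  by_contra hc
  push Not at hc
  have h1 : (Finset.univ : Finset ι) ⊆ {i, j} := by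
    intro l _
    by_cases h1 : l = i
    · simp [h1]
    simp [hc l h1]
  have h2 := (Finset.card_le_card h1).trans Finset.card_le_two
  rw [Finset.card_univ] at h2
  omega

section

variable (hμ : ∀ m : μ, PEl p m)

include hμ

theorem pEl_fun (a : ι → μ) : PEl p a := by
  choose k hk using hμ
  refine ⟨∑ i, k (a i), funext fun i => ?_⟩
  show a i ^ p ^ (∑ i, k (a i)) = 1
  have h1 : k (a i) ≤ ∑ i, k (a i) := Finset.single_le_sum (f := fun i => k (a i)) (fun _ _ => Nat.zero_le _)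
    (Finset.mem_univ i)
  obtain ⟨c, hc⟩ := Nat.exists_eq_add_of_le h1
  rw [hc, pow_add, pow_mul, hk, one_pow]

theorem isPGroup_range : IsPGroup p M.δ.range := by
  rw [isPGroup_iff]
  rintro _ ⟨a, rfl⟩
  exact (pEl_fun hμ a).map M.δ

/-- the `p`-group generated by the diagonal elements and a monomial `p`-element -/
theorem isPGroup_mon {π : alternatingGroup ι} (hπ : PEl p π) :
    IsPGroup p ↥(Subgroup.zpowers (M.ρ π) ⊔ M.δ.range) := by
  refine isPGroup_sup_zpowers (hπ.map M.ρ) (M.isPGroup_range hμ) ?_ ?_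
  · rintro _ ⟨a, rfl⟩
    exact ⟨_, (M.conj π a).symm⟩
  · rintro _ ⟨a, rfl⟩
    have := M.conj π⁻¹ a
    rw [map_inv, inv_inv] at this
    exact ⟨_, this.symm⟩

variable {P : G → Prop} (hP : PCl p P)

include hP

theorem mulP {a b : ι → μ} (ha : P (M.δ a)) (hb : P (M.δ b)) : P (M.δ (a * b)) := by
  rw [map_mul]
  exact hP.mul (M.isPGroup_range hμ) ⟨_, rfl⟩ ⟨_, rfl⟩ ha hb

theorem invP {a : ι → μ} (ha : P (M.δ a)) : P (M.δ a⁻¹) := by
  rw [map_inv]
  exact hP.inv ha

/-- twisting two coordinates -/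
theorem tw_mem {a : ι → μ} (ha : P (M.δ a)) {i j : ι} (hij : i ≠ j) :
    P (M.δ (fun l => if l = i then a l ^ (M.t - 1) else if l = j then a l ^ (M.t' - 1) else 1)) := by
  obtain ⟨g, hg⟩ := M.tw i j hij
  have h1 := hP.conj g ha
  rw [hg] at h1
  have h2 := M.mulP hμ hP h1 (M.invP hμ hP ha)
  convert h2 using 2
  funext l
  show _ = (if l = i then a l ^ M.t else if l = j then a l ^ M.t' else a l) * (a l)⁻¹
  split_ifs
  · rw [zpow_sub, zpow_one]
  · rw [zpow_sub, zpow_one]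
  · rw [mul_inv_cancel]

/-- a single coordinate -/
theorem single_mem (h3 : 3 ≤ Fintype.card ι) {a : ι → μ} (ha : P (M.δ a)) (j : ι) :
    P (M.δ (Pi.mulSingle j (a j))) := by
  obtain ⟨i, hi, -⟩ := exists_third h3 j j
  obtain ⟨l, hl1, hl2⟩ := exists_third h3 i j
  have h1 := M.tw_mem hμ hP ha hi
  have h2 := M.tw_mem hμ hP h1 hl2
  have h4 : (fun x => if x = l then (fun l => if l = i then a l ^ (M.t - 1) else if l = j then a l ^ (M.t' - 1) else 1) x
      ^ (M.t - 1) else if x = j then (fun l => if l = i then a l ^ (M.t - 1) else if l = j then a l ^ (M.t' - 1) else 1) x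
      ^ (M.t' - 1) else 1) = Pi.mulSingle j ((a j ^ (M.t' - 1)) ^ (M.t' - 1)) := by
    funext x
    by_cases hx : x = j
    · subst hx
      simp [hl2.symm, hi.symm]
    · rw [Pi.mulSingle_eq_of_ne hx]
      by_cases hx2 : x = l
      · subst hx2
        simp [hl1, hl2]
      · simp [hx, hx2]
  rw [h4] at h2
  obtain ⟨n, hn⟩ := M.ht' (a j)
  obtain ⟨n', hn'⟩ := M.ht' (a j ^ (M.t' - 1))
  have h5 : Pi.mulSingle j (a j) = (Pi.mulSingle j ((a j ^ (M.t' - 1)) ^ (M.t' - 1)) : ι → μ) ^ (n' * n) := by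
    rw [← Pi.mulSingle_zpow, zpow_mul, hn', hn]
  rw [h5, map_zpow]
  exact hP.zpow ((pEl_fun hμ _).map M.δ) h2 _

omit hμ in
theorem single_all (h3 : 3 ≤ Fintype.card ι) {m : μ} {j : ι} (h : P (M.δ (Pi.mulSingle j m))) (j' : ι) :
    P (M.δ (Pi.mulSingle j' m)) := by
  by_cases hj : j' = j
  · rw [hj]; exact h
  obtain ⟨l, hl1, hl2⟩ := exists_third h3 j j'
  have hA : Equiv.swap j j' * Equiv.swap j' l ∈ alternatingGroup ι := by
    rw [Perm.mem_alternatingGroup, Perm.sign_mul, Perm.sign_swap (Ne.symm hj), Perm.sign_swap hl2.symm]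
    rfl
  have h1 := hP.conj (M.ρ ⟨_, hA⟩) h
  rw [M.conj] at h1
  convert h1 using 2
  funext x
  have e : (Equiv.swap j j' * Equiv.swap j' l) j = j' := by
    rw [Perm.mul_apply, swap_apply_of_ne_of_ne (Ne.symm hj) hl1.symm, swap_apply_left]
  by_cases hx : x = j'
  · subst hx
    have e2 : (Equiv.swap j x * Equiv.swap x l).symm x = j := by rw [Equiv.symm_apply_eq]; exact e.symm
    rw [Pi.mulSingle_eq_same]
    show m = (Pi.mulSingle j m : ι → μ) ((Equiv.swap j x * Equiv.swap x l).symm x)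
    rw [e2, Pi.mulSingle_eq_same]
  · rw [Pi.mulSingle_eq_of_ne hx, Pi.mulSingle_eq_of_ne]
    intro h5
    exact hx (((Equiv.symm_apply_eq _).1 h5).trans e)

theorem all_of_single {a : ι → μ} (h : ∀ j, P (M.δ (Pi.mulSingle j (a j)))) : P (M.δ a) := by
  let N : Subgroup (ι → μ) :=
    { carrier := {a | P (M.δ a)}
      one_mem' := by show P (M.δ 1); rw [map_one]; exact hP.one
      mul_mem' := fun ha hb => M.mulP hμ hP ha hb
      inv_mem' := fun ha => M.invP hμ hP ha }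
  have : a ∈ N := by
    rw [← Finset.univ_prod_mulSingle a]
    exact Subgroup.prod_mem _ fun j _ => h j
  exact this

/-- the commutator computation -/
theorem comm_mem {a : ι → μ} {π : alternatingGroup ι} (hπ : PEl p π) (h : P (M.δ a * M.ρ π)) (d : ι → μ) :
    P (M.δ (d * (fun i => d (π.1.symm i))⁻¹)) := by
  have hQ := M.isPGroup_mon hμ hπ
  have hδ : ∀ b, M.δ b ∈ Subgroup.zpowers (M.ρ π) ⊔ M.δ.range := fun b => Subgroup.mem_sup_right ⟨b, rfl⟩
  have hρ : M.ρ π ∈ Subgroup.zpowers (M.ρ π) ⊔ M.δ.range := Subgroup.mem_sup_left (Subgroup.mem_zpowers _)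
  have h1 := hP.comm hQ (hδ d) (Subgroup.mul_mem _ (hδ a) hρ) h
  have e : M.δ d * (M.δ a * M.ρ π) * (M.δ d)⁻¹ * (M.δ a * M.ρ π)⁻¹ = M.δ (d * (fun i => d (π.1.symm i))⁻¹) := by
    rw [mul_inv_rev, map_mul, map_inv, ← M.conj π d]
    have h2 : M.δ a * (M.ρ π * (M.δ d)⁻¹ * (M.ρ π)⁻¹) = (M.ρ π * (M.δ d)⁻¹ * (M.ρ π)⁻¹) * M.δ a := by
      have h3 : M.ρ π * (M.δ d)⁻¹ * (M.ρ π)⁻¹ = M.δ (fun i => d⁻¹ (π.1.symm i)) := by rw [← M.conj, map_inv]
      rw [h3, ← map_mul, ← map_mul, mul_comm]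
    calc M.δ d * (M.δ a * M.ρ π) * (M.δ d)⁻¹ * ((M.ρ π)⁻¹ * (M.δ a)⁻¹)
        = M.δ d * (M.δ a * (M.ρ π * (M.δ d)⁻¹ * (M.ρ π)⁻¹)) * (M.δ a)⁻¹ := by group
      _ = M.δ d * (M.ρ π * (M.δ d)⁻¹ * (M.ρ π)⁻¹) := by rw [h2]; group
      _ = _ := by group
  rwa [e] at h1

theorem comm_single {a : ι → μ} {π : alternatingGroup ι} (hπ : PEl p π) (h : P (M.δ a * M.ρ π)) {i : ι}
    (hi : π.1 i ≠ i) (m : μ) :
    ∃ b : ι → μ, P (M.δ b) ∧ b i = m ∧ b (π.1 i) = m⁻¹ := by
  refine ⟨_, M.comm_mem hμ hP hπ h (Pi.mulSingle i m), ?_, ?_⟩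
  · show (Pi.mulSingle i m : ι → μ) i * ((Pi.mulSingle i m : ι → μ) (π.1.symm i))⁻¹ = m
    rw [Pi.mulSingle_eq_same, Pi.mulSingle_eq_of_ne, inv_one, mul_one]
    intro e
    apply hi
    rw [Equiv.symm_apply_eq] at e
    exact e.symm
  · show (Pi.mulSingle i m : ι → μ) (π.1 i) * ((Pi.mulSingle i m : ι → μ) (π.1.symm (π.1 i)))⁻¹ = m⁻¹
    rw [Equiv.symm_apply_apply, Pi.mulSingle_eq_same, Pi.mulSingle_eq_of_ne hi, one_mul]

variable (hcyc : ∀ m : μ, m ≠ 1 → ∀ z : μ, z ^ p = 1 → ∃ n : ℕ, z = m ^ n)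

include hcyc

/-- **The monomial core with twisting.** -/
theorem full (hp2 : p ≠ 2) (hcard : p ≤ Fintype.card ι) {ζ : μ} (hζ1 : ζ ≠ 1)
    {a : ι → μ} {π : alternatingGroup ι} (hπ : PEl p π) (h : P (M.δ a * M.ρ π))
    (hns : π ≠ 1 ∨ a ≠ 1) (a' : ι → μ) (π' : alternatingGroup ι) (hπ' : PEl p π') :
    P (M.δ a' * M.ρ π') := by
  have hp3 : 3 ≤ p := by
    have := hp.out.two_le
    omega
  have hc3 : 3 ≤ Fintype.card ι := hp3.trans hcard
  -- a nontrivial diagonal element with one coordinate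
  obtain ⟨b, hb, hb1⟩ : ∃ b : ι → μ, P (M.δ b) ∧ b ≠ 1 := by
    by_cases h1 : π = 1
    · rcases hns with h2 | h2
      · exact absurd h1 h2
      · rw [h1, map_one, mul_one] at h
        exact ⟨a, h, h2⟩
    · obtain ⟨i, hi⟩ : ∃ i, π.1 i ≠ i := by
        by_contra hc
        push Not at hc
        exact h1 (Subtype.ext (Perm.ext hc))
      obtain ⟨b, hb, hbi, -⟩ := M.comm_single hμ hP hπ h hi ζ
      exact ⟨b, hb, fun e => hζ1 (by rw [← hbi, e]; rfl)⟩
  obtain ⟨j, hj⟩ : ∃ j, b j ≠ 1 := by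
    by_contra hc
    push Not at hc
    exact hb1 (funext hc)
  have hs := M.single_mem hμ hP hc3 hb j
  -- the elements of order `p`
  have hΩ : ∀ a : ι → μ, a ^ p = 1 → P (M.δ a) := by
    intro a ha
    refine M.all_of_single hμ hP fun i => ?_
    obtain ⟨n, hn⟩ := hcyc _ hj (a i) (congrFun ha i)
    rw [hn, Pi.mulSingle_pow, map_pow]
    exact hP.pow ((pEl_fun hμ _).map M.δ) (M.single_all hP hc3 hs i) n
  -- the `p`-cycles
  have hcy : ∀ c : alternatingGroup ι, c.1.IsCycle → c.1.support.card = p → P (M.ρ c) := by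
    intro c hc1 hc2
    obtain ⟨a, ha, g, hg⟩ := M.fus c hc1 hc2
    exact hP.of_conj (g := g) (by rw [hg]; exact hΩ a ha)
  -- a `p`-cycle
  obtain ⟨c, hc1, hc2⟩ : ∃ c : Perm ι, c.IsCycle ∧ c.support.card = p := by
    obtain ⟨s, hs⟩ : ∃ s : Finset ι, s.card = p := Finset.exists_subset_card_eq (s := Finset.univ)
      (by rw [Finset.card_univ]; exact hcard) |>.imp fun s hs => hs.2
    obtain ⟨c, hc, hcs⟩ := Finset.exists_cycleOn s
    have hnt : s.Nontrivial := Finset.one_lt_card_iff_nontrivial.1 (by rw [hs]; exact hp.out.one_lt)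
    refine ⟨c, ?_, ?_⟩
    · rw [isCycle_iff_exists_isCycleOn]
      exact ⟨s, by exact_mod_cast hnt, hc, fun x hx => hcs (mem_support.2 hx)⟩
    · rw [← hs]
      congr 1
      refine le_antisymm hcs fun x hx => ?_
      rw [mem_support]
      exact hc.apply_ne (by exact_mod_cast hnt) (by exact_mod_cast hx)
  have hcp : PEl p c := ⟨1, by rw [pow_one, ← hc2, ← hc1.orderOf]; exact pow_orderOf_eq_one c⟩
  have hcA : c ∈ alternatingGroup ι := Mon.mem_alt hp2 hcp
  have hcp' : PEl p (⟨c, hcA⟩ : alternatingGroup ι) := PEl.of_map (alternatingGroup ι).subtype_injective hcp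
  have hPc := hcy ⟨c, hcA⟩ hc1 hc2
  -- all the diagonal elements
  have hD : ∀ a : ι → μ, P (M.δ a) := by
    obtain ⟨i, hi, -⟩ := hc1
    intro a
    refine M.all_of_single hμ hP fun j => ?_
    obtain ⟨b, hb, hbi, -⟩ := M.comm_single (a := 1) hμ hP hcp' (by rw [map_one, one_mul]; exact hPc) hi (a j)
    have h6 := M.single_mem hμ hP hc3 hb i
    rw [hbi] at h6
    exact M.single_all hP hc3 h6 j
  -- the permutations
  have hperm : ∀ π : Perm ι, PEl p π → ∀ hA : π ∈ alternatingGroup ι, P (M.ρ ⟨π, hA⟩) := by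
    have key := perm_gen (p := p) (P := fun π : Perm ι => ∀ hA : π ∈ alternatingGroup ι, P (M.ρ ⟨π, hA⟩)) ?_ ?_ ?_
    · exact key
    · intro hA
      have : (⟨1, hA⟩ : alternatingGroup ι) = 1 := rfl
      rw [this, map_one]
      exact hP.one
    · intro Q hQ x hx y hy h1 h2 hA
      have hxA : x ∈ alternatingGroup ι := Mon.mem_alt hp2 (PEl.of_isPGroup hQ hx)
      have hyA : y ∈ alternatingGroup ι := Mon.mem_alt hp2 (PEl.of_isPGroup hQ hy)
      have e : (⟨x * y, hA⟩ : alternatingGroup ι) = ⟨x, hxA⟩ * ⟨y, hyA⟩ := rfl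
      rw [e, map_mul]
      have hQ' : IsPGroup p (Q.comap (alternatingGroup ι).subtype) := hQ.comap_subtype
      exact hP.mul (hQ'.map M.ρ) ⟨⟨x, hxA⟩, hx, rfl⟩ ⟨⟨y, hyA⟩, hy, rfl⟩ (h1 hxA) (h2 hyA)
    · intro c h1 h2 hA
      exact hcy ⟨c, hA⟩ h1 h2
  refine hP.mul (M.isPGroup_mon hμ hπ') (Subgroup.mem_sup_right ⟨a', rfl⟩)
    (Subgroup.mem_sup_left (Subgroup.mem_zpowers _)) (hD a') ?_
  exact hperm π'.1 (hπ'.map (alternatingGroup ι).subtype) π'.2

end

end MonG

end Cfsg.Agent.H749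
end

-- part: H749/MonOrd
section
/-!
# Monomial subgroups of index prime to `p` (helper749)

`exists_conj_mon` : `δ : D →* G`, `ρ : A →* G` with `ρ A` normalizing `δ D`, `D × A → G` injective and of order divisible by the
`p`-part of `|G|`: every `p`-element of `G` is conjugate to `δ d * ρ a`, `a` a `p`-element.
`MonG.fullP` : then `FullP p G`.
-/

set_option autoImplicit false
set_option linter.unusedSectionVars false

namespace Cfsg.Agent.H749

open Equiv Equiv.Perm

section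

variable {p : ℕ} [hp : Fact p.Prime] {D A G : Type*} [Group D] [Group A] [Group G] (δ : D →* G) (ρ : A →* G)
  (hc : ∀ (a : A) (d : D), ∃ d' : D, ρ a * δ d * (ρ a)⁻¹ = δ d')

include hc

/-- the products `δ d * ρ a` -/
def prodSub : Subgroup G where
  carrier := {x | ∃ d a, x = δ d * ρ a}
  one_mem' := ⟨1, 1, by simp⟩
  mul_mem' := by
    rintro _ _ ⟨d, a, rfl⟩ ⟨d', a', rfl⟩
    obtain ⟨d'', h⟩ := hc a d'
    refine ⟨d * d'', a * a', ?_⟩
    rw [map_mul, map_mul, ← h]
    group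
  inv_mem' := by
    rintro _ ⟨d, a, rfl⟩
    obtain ⟨d', h⟩ := hc a⁻¹ d⁻¹
    refine ⟨d', a⁻¹, ?_⟩
    rw [← h, map_inv, map_inv]
    group

theorem pow_eq (d : D) (a : A) (n : ℕ) : ∃ d', (δ d * ρ a) ^ n = δ d' * ρ (a ^ n) := by
  induction n with
  | zero => exact ⟨1, by simp⟩
  | succ n ih =>
    obtain ⟨d', h⟩ := ih
    obtain ⟨d'', h'⟩ := hc (a ^ n) d
    refine ⟨d' * d'', ?_⟩
    rw [pow_succ, h, map_mul, ← h', pow_succ, map_mul]
    group

variable (hinj : ∀ d a, δ d * ρ a = 1 → d = 1 ∧ a = 1)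

include hinj

theorem pEl_of_mul {d : D} {a : A} (h : PEl p (δ d * ρ a)) : PEl p a := by
  obtain ⟨k, hk⟩ := h
  obtain ⟨d', h'⟩ := pow_eq δ ρ hc d a (p ^ k)
  rw [h'] at hk
  exact ⟨k, (hinj _ _ hk).2⟩

theorem card_prodSub : Nat.card (prodSub δ ρ hc) = Nat.card D * Nat.card A := by
  rw [← Nat.card_prod]
  refine (Nat.card_congr (Equiv.ofBijective (fun x : D × A => (⟨δ x.1 * ρ x.2, x.1, x.2, rfl⟩ : prodSub δ ρ hc))
    ⟨?_, ?_⟩)).symm
  · rintro ⟨d, a⟩ ⟨d', a'⟩ h
    have h1 : δ d * ρ a = δ d' * ρ a' := congrArg Subtype.val h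
    have h2 : δ (d'⁻¹ * d) * ρ (a * a'⁻¹) = 1 := by
      rw [map_mul, map_mul, map_inv, map_inv]
      calc (δ d')⁻¹ * δ d * (ρ a * (ρ a')⁻¹) = (δ d')⁻¹ * (δ d * ρ a) * (ρ a')⁻¹ := by group
        _ = 1 := by rw [h1]; group
    obtain ⟨h3, h4⟩ := hinj _ _ h2
    rw [inv_mul_eq_one] at h3
    rw [mul_inv_eq_one] at h4
    rw [h3, h4]
  · rintro ⟨x, d, a, rfl⟩
    exact ⟨(d, a), rfl⟩

/-- **Conjugation into the monomial subgroup.** -/
theorem exists_conj_mon [Finite G] (hord : (Nat.card G).factorization p ≤ (Nat.card D * Nat.card A).factorization p)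
    {x : G} (hx : PEl p x) : ∃ (g : G) (d : D) (a : A), PEl p a ∧ g * x * g⁻¹ = δ d * ρ a := by
  have hG : Nat.card G ≠ 0 := Nat.card_pos.ne'
  have hidx : ¬ p ∣ (prodSub δ ρ hc).index := by
    intro h
    have h1 := (prodSub δ ρ hc).card_mul_index
    rw [card_prodSub δ ρ hc hinj] at h1
    have h0 : Nat.card D * Nat.card A ≠ 0 := by
      intro h0
      rw [h0, zero_mul] at h1
      exact hG h1.symm
    have hi : (prodSub δ ρ hc).index ≠ 0 := Subgroup.index_ne_zero_of_finite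
    rw [← h1, Nat.factorization_mul h0 hi, Finsupp.add_apply] at hord
    have h2 := hp.out.factorization_pos_of_dvd hi h
    omega
  obtain ⟨g, hg⟩ := exists_conj_mem (prodSub δ ρ hc) hidx hx
  obtain ⟨d, a, e⟩ := hg
  refine ⟨g, d, a, ?_, e⟩
  refine pEl_of_mul δ ρ hc hinj (d := d) ?_
  rw [← e]
  exact hx.conj g

end

namespace MonG

variable {p : ℕ} [hp : Fact p.Prime] {ι μ : Type*} [Fintype ι] [DecidableEq ι] [CommGroup μ] {G : Type*} [Group G]
  (M : MonG p ι μ G)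

/-- **`FullP` from monomial data with twisting.** -/
theorem fullP [Finite G] (hμ : ∀ m : μ, PEl p m) (hcyc : ∀ m : μ, m ≠ 1 → ∀ z : μ, z ^ p = 1 → ∃ n : ℕ, z = m ^ n)
    (hp2 : p ≠ 2) (hcard : p ≤ Fintype.card ι) {ζ : μ} (hζ1 : ζ ≠ 1)
    (hinj : ∀ a π, M.δ a * M.ρ π = 1 → a = 1 ∧ π = 1)
    (hord : (Nat.card G).factorization p ≤ (Nat.card (ι → μ) * Nat.card (alternatingGroup ι)).factorization p) :
    FullP p G := by
  rintro P hP ⟨x, hx, hx1, hPx⟩ y hy
  obtain ⟨g, a, π, hπ, e⟩ := exists_conj_mon M.δ M.ρ (fun a d => ⟨_, M.conj a d⟩) hinj hord hx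
  obtain ⟨g', a', π', hπ', e'⟩ := exists_conj_mon M.δ M.ρ (fun a d => ⟨_, M.conj a d⟩) hinj hord hy
  refine hP.of_conj (g := g') ?_
  rw [e']
  refine M.full hμ hP hcyc hp2 hcard hζ1 hπ (a := a) ?_ ?_ a' π' hπ'
  · rw [← e]; exact hP.conj g hPx
  · by_contra hc
    push Not at hc
    rw [hc.1, hc.2, map_one, map_one, mul_one] at e
    apply hx1
    have := conj_eq_one_iff.1 e
    exact this

end MonG

end Cfsg.Agent.H749
end

private theorem dce_bfa62e14e2cf : _root_.True := by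
  try have : _root_.True := by simp only [_root_.Cfsg.Agent.H749.ed.eq_1]
  try have : _root_.True := by simp only [_root_.Cfsg.Agent.H749.ed.congr_simp]
  exact _root_.True.intro
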