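import Mathlib
import Cfsg.Agent.H749.BlockOrth_m3
import Cfsg.Agent.H749.QuadSplit
import Cfsg.Agent.H955.QMinus
import Cfsg.Agent.S0286
import Cfsg.Agent.S0287
import Cfsg.Agent.S0288
import Cfsg.Agent.Prune
set_option linter.all false
prune_inst 0x7f00000000000000000000000000000000000000000000000000000000000000000000000000000000000000000000000000000000000000000000000000000000000000000000000000000000000000003fffffffffffffffffffffffffffbeffbdffffffff
open scoped Cfsg.Agent.FastGrp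

/-!
# `FullP` for the orthogonal groups, `p` odd not dividing `q` (helper749)

`d` the order of `q²` modulo `p`.
* `dichOdd` : `Ω_{2n+1}(q)`, `q` odd, `k = n / d`;
* `dichEven` : nondegenerate forms in dimension `2 n`, `k d ≤ n - 1`;
* `dichPlus`, `dichMinus` : `Ω^±_{2n}(q)`; `k = n / d` for `p` dividing `q ^ n ∓ 1`, `(n - 1) / d` otherwise;
* `fullOdd`, `fullPlus`, `fullMinus` : `FullP` for `p ≤ k`.
-/

set_option autoImplicit false
set_option linter.unusedSectionVars false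

namespace Cfsg.Agent.H749

open QuadraticMap Cfsg.Agent.LieClassical.OrthCore Cfsg.Agent.LieClassical.OrthTrans Cfsg.Agent.GenOrth
open Cfsg.Agent.LieClassical.OrthForms

section order

variable {p : ℕ} [hp : Fact p.Prime] {q : ℕ}

theorem vp_two_mul_pow (hp2 : p ≠ 2) (hpq : ¬ (p : ℤ) ∣ (q : ℤ)) (hq : 1 < q) (c : ℕ) {x : ℤ} (hx : x ≠ 0) :
    vp p (2 * (q : ℤ) ^ c * x) = vp p x := by
  have h2 : ¬ (p : ℤ) ∣ 2 := by
    intro h
    exact hp2 ((Nat.prime_dvd_prime_iff_eq hp.out Nat.prime_two).1 (Int.natCast_dvd_natCast.1 (by exact_mod_cast h)))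
  have h3 : (2 * (q : ℤ) ^ c) ≠ 0 := mul_ne_zero two_ne_zero (pow_ne_zero _ (by omega))
  rw [vp_mul p h3 hx, vp_eq_zero (z := 2 * (q : ℤ) ^ c), zero_add]
  intro h
  rcases (Nat.prime_iff_prime_int.1 hp.out).dvd_mul.1 h with h | h
  · exact h2 h
  · exact hpq ((Nat.prime_iff_prime_int.1 hp.out).dvd_of_dvd_pow h)

theorem prod_ne (hq : 1 < q) (m : ℕ) : ∏ i ∈ Finset.range m, (((q : ℤ) ^ 2) ^ (i + 1) - 1) ≠ 0 := by
  refine Finset.prod_ne_zero_iff.2 fun i _ => sub_ne_zero.2 ?_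
  rw [← pow_mul]
  exact pow_ne_one' hq _ (by omega)

theorem sq_ne (hq : 1 < q) : ∀ i : ℕ, i ≠ 0 → ((q : ℤ) ^ 2) ^ i ≠ 1 := by
  intro i hi
  rw [← pow_mul]
  exact pow_ne_one' hq _ (by omega)

theorem cast_prod' (hq : 1 < q) (m : ℕ) : ((∏ i ∈ Finset.range m, (q ^ (2 * (i + 1)) - 1) : ℕ) : ℤ) =
    ∏ i ∈ Finset.range m, (((q : ℤ) ^ 2) ^ (i + 1) - 1) := by
  rw [Nat.cast_prod]
  refine Finset.prod_congr rfl fun i _ => ?_
  rw [Nat.cast_sub (Nat.one_le_pow _ _ (by omega)), Nat.cast_pow, pow_mul]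
  rfl

/-- odd dimension -/
theorem vp_odd (hp2 : p ≠ 2) (hq : 1 < q) {d : ℕ} (hd : orderOf (((q : ℤ) ^ 2 : ℤ) : ZMod p) = d) (hd0 : d ≠ 0) (m : ℕ) :
    (2 * q ^ (m ^ 2) * ∏ i ∈ Finset.range m, (q ^ (2 * (i + 1)) - 1)).factorization p =
      (m / d) * vp p (((q : ℤ) ^ 2) ^ d - 1) + (m / d).factorial.factorization p := by
  have hpq : ¬ (p : ℤ) ∣ (q : ℤ) := fun h1 => not_dvd_of_order hd hd0 (dvd_pow h1 two_ne_zero)
  rw [← vp_natCast, Nat.cast_mul, cast_prod' hq, Nat.cast_mul, Nat.cast_pow,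
    show ((2 : ℕ) : ℤ) = 2 from rfl, vp_two_mul_pow hp2 hpq hq _ (prod_ne hq m), vp_prod hp2 hd (sq_ne hq)]

/-- even dimension, `p` not dividing `q ^ n - s` -/
theorem vp_even_not (hp2 : p ≠ 2) (hq : 1 < q) {d : ℕ} (hd : orderOf (((q : ℤ) ^ 2 : ℤ) : ZMod p) = d) (hd0 : d ≠ 0)
    {n : ℕ} {s : ℤ} (hne : (q : ℤ) ^ n - s ≠ 0) (hs : ¬ (p : ℤ) ∣ (q : ℤ) ^ n - s) {N : ℕ} {c : ℕ}
    (hN : (N : ℤ) = 2 * (q : ℤ) ^ c * (((q : ℤ) ^ n - s) * ∏ i ∈ Finset.range (n - 1), (((q : ℤ) ^ 2) ^ (i + 1) - 1))) :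
    N.factorization p =
      ((n - 1) / d) * vp p (((q : ℤ) ^ 2) ^ d - 1) + ((n - 1) / d).factorial.factorization p := by
  have hpq : ¬ (p : ℤ) ∣ (q : ℤ) := fun h1 => not_dvd_of_order hd hd0 (dvd_pow h1 two_ne_zero)
  rw [← vp_natCast, hN, vp_two_mul_pow hp2 hpq hq _ (mul_ne_zero hne (prod_ne hq _)), vp_mul p hne (prod_ne hq _),
    vp_eq_zero hs, zero_add, vp_prod hp2 hd (sq_ne hq)]

theorem d_dvd {d : ℕ} (hd : orderOf (((q : ℤ) ^ 2 : ℤ) : ZMod p) = d) {n : ℕ} {s : ℤ} (hss : s * s = 1)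
    (hs : (p : ℤ) ∣ (q : ℤ) ^ n - s) : d ∣ n := by
  rw [← hd, ← dvd_pow_sub_one_iff]
  have e : ((q : ℤ) ^ 2) ^ n - 1 = ((q : ℤ) ^ n - s) * ((q : ℤ) ^ n + s) := by
    rw [← pow_mul, mul_comm 2 n, pow_mul]
    linear_combination hss
  rw [e]
  exact dvd_mul_of_dvd_left hs _

/-- even dimension, `p` dividing `q ^ n - s` -/
theorem vp_even (hp2 : p ≠ 2) (hq : 1 < q) {d : ℕ} (hd : orderOf (((q : ℤ) ^ 2 : ℤ) : ZMod p) = d) (hd0 : d ≠ 0)
    {n : ℕ} (hn : 1 ≤ n) {s : ℤ} (hss : s * s = 1) (hs : (p : ℤ) ∣ (q : ℤ) ^ n - s) {N : ℕ} {c : ℕ}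
    (hN : (N : ℤ) = 2 * (q : ℤ) ^ c * (((q : ℤ) ^ n - s) * ∏ i ∈ Finset.range (n - 1), (((q : ℤ) ^ 2) ^ (i + 1) - 1))) :
    N.factorization p =
      (n / d) * vp p (((q : ℤ) ^ 2) ^ d - 1) + (n / d).factorial.factorization p := by
  have hpq : ¬ (p : ℤ) ∣ (q : ℤ) := fun h1 => not_dvd_of_order hd hd0 (dvd_pow h1 two_ne_zero)
  have e : ((q : ℤ) ^ 2) ^ n - 1 = ((q : ℤ) ^ n - s) * ((q : ℤ) ^ n + s) := by
    rw [← pow_mul, mul_comm 2 n, pow_mul]
    linear_combination hss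
  have hne2 : ((q : ℤ) ^ n - s) * ((q : ℤ) ^ n + s) ≠ 0 := by
    rw [← e]
    exact sub_ne_zero.2 (sq_ne hq n (by omega))
  have hne : (q : ℤ) ^ n - s ≠ 0 := left_ne_zero_of_mul hne2
  have hne' : (q : ℤ) ^ n + s ≠ 0 := right_ne_zero_of_mul hne2
  have h0 : vp p ((q : ℤ) ^ n + s) = 0 := by
    apply vp_eq_zero
    intro h
    have h1 : (p : ℤ) ∣ 2 * s := by
      have := dvd_sub h hs
      have e2 : ((q : ℤ) ^ n + s) - ((q : ℤ) ^ n - s) = 2 * s := by ring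
      rwa [e2] at this
    have h2 : (p : ℤ) ∣ 2 := by
      have := dvd_mul_of_dvd_left h1 s
      rwa [mul_assoc, hss, mul_one] at this
    exact hp2 ((Nat.prime_dvd_prime_iff_eq hp.out Nat.prime_two).1 (Int.natCast_dvd_natCast.1 (by exact_mod_cast h2)))
  have h1 : vp p ((q : ℤ) ^ n - s) = vp p (((q : ℤ) ^ 2) ^ n - 1) := by
    rw [e, vp_mul p hne hne', h0, add_zero]
  rw [← vp_natCast, hN, vp_two_mul_pow hp2 hpq hq _ (mul_ne_zero hne (prod_ne hq _)), vp_mul p hne (prod_ne hq _), h1]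
  have h2 := vp_prod hp2 hd (sq_ne hq) n
  obtain ⟨k, rfl⟩ := Nat.exists_eq_succ_of_ne_zero (show n ≠ 0 by omega)
  rw [← h2, Finset.prod_range_succ, vp_mul p (prod_ne hq k) (sub_ne_zero.2 (sq_ne hq _ (Nat.succ_ne_zero k)))]
  exact add_comm _ _

end order

section

universe u

variable {p : ℕ} [hp : Fact p.Prime] {F : Type u} [Field F] [Finite F]

theorem nondeg_pi {ι W : Type*} [Fintype ι] [DecidableEq ι] [AddCommGroup W] [Module F W] {Q : QuadraticForm F W}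
    (hQ : Nondeg Q) : Nondeg (QuadraticMap.pi fun _ : ι => Q) := by
  have hpol : ∀ u v : ι → W, polar (QuadraticMap.pi fun _ : ι => Q) u v = ∑ i, polar Q (u i) (v i) := by
    intro u v
    unfold polar
    simp only [QuadraticMap.pi_apply, Pi.add_apply, Finset.sum_sub_distrib]
  intro u hu
  refine funext fun i => hQ _ fun w => ?_
  have h := hu (Pi.single i w)
  rw [hpol, Finset.sum_eq_single i] at h
  · simpa using h
  · intro j _ hj
    simp only [Pi.single_eq_of_ne hj, polar_zero_right]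
  · intro h
    exact absurd (Finset.mem_univ i) h

/-- **The core of the orthogonal case.** -/
theorem dichOrth {L : Type} [Field L] [Finite L] [Algebra F L] {L' : Type} [Field L'] [Algebra L L'] {τ : L} {ζ : L'ˣ}
    (hτ : algebraMap L L' τ = (ζ : L') + ((ζ⁻¹ : L'ˣ) : L')) (hζ : ζ ^ 2 ≠ 1) {a : ℕ} (ha0 : a ≠ 0) (hζo : orderOf ζ = p ^ a)
    (hp2 : p ≠ 2) (hpF : (p : F) ≠ 0) {k : ℕ} {W₀ : Type*} [AddCommGroup W₀] [Module F W₀]
    [FiniteDimensional F W₀] (hdim : 5 ≤ Module.finrank F ((Fin k → L × L) × W₀)) {Q₀ : QuadraticForm F W₀}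
    (hQ₀ : Nondeg Q₀) {κ : Type} [Fintype κ] [DecidableEq κ]
    {q : (κ → F) → F} (hsim : Sim (sumQuad (ι := Fin k) (qF F τ) Q₀) q)
    (hord : (Nat.card (Cfsg.isometryGroup F q)).factorization p ≤ k * a + k.factorial.factorization p) :
    DichN p k (Cfsg.Omega F q) := by
  have hLfin : Module.Finite F L := Module.Finite.of_finite
  have hz : orderOf (rs F (zL τ)) = p ^ a := by rw [orderOf_rs hτ hζ, hζo]
  have hzp := pow_order_p ha0 hz
  obtain ⟨g, hg, hgs⟩ := exists_fou_quad (F := F) hτ hζ hpF hzp (pow_order_ne ha0 hz)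
  obtain ⟨hT, hTz⟩ := swL_quad (F := F) (L := L) (τ := τ)
  have hfc : Fintype.card (Fin k) = k := Fintype.card_fin _
  have h := dichOmega (ι := Fin k) (nondeg_qF (tau_sq_ne hτ hζ)) hQ₀ hdim (exists_qF hτ hζ) (z := rs F (zL τ)) (by
    intro u _
    show qF F τ (zL τ u) = qF F τ u
    rw [qF_apply, qF_apply, nQ_zL]) ha0 hz
    hg hgs hT (-1) (-1) hTz (by norm_num) (not_dvd_neg_two hp2) hp2 hsim
    (by rw [Fintype.card_fin]; exact hord)
  rwa [hfc] at h

/-- **Odd dimension.** -/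
theorem dichOdd (hp2 : p ≠ 2) (hodd : Odd (Nat.card F)) {d : ℕ}
    (hd : orderOf (((Nat.card F : ℤ) ^ 2 : ℤ) : ZMod p) = d) (hd0 : d ≠ 0) {n : ℕ} (hn2 : 2 ≤ n) :
    DichN p (n / d) (Cfsg.Omega F (Cfsg.quadFormOdd n F)) := by
  have hpq : ¬ p ∣ Nat.card F := fun h =>
    not_dvd_of_order hd hd0 (dvd_pow (Int.natCast_dvd_natCast.2 h) two_ne_zero)
  have hpF : (p : F) ≠ 0 := cast_ne_zero_of hpq
  have := Fintype.ofFinite F
  have h2 : (2 : F) ≠ 0 := by
    intro h2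
    have h3 : ((2 : ℕ) : F) = 0 := by exact_mod_cast h2
    exact cast_ne_zero_of (p := 2) (F := F) (by
      rw [Nat.odd_iff] at hodd
      omega) h3
  obtain ⟨L, _, _, _, L', _, _, ζ, τ, hLrank, hτ, hζ, ha0, hζo⟩ := exists_plane (p := p) (F := F) hp2 hd hd0
  have hLfin : Module.Finite F L := Module.Finite.of_finite
  have hker : n / d * d ≤ n := Nat.div_mul_le_self n d
  have hnd : Nondeg (sumQuad (ι := Fin (n / d)) (qF F τ) (oddForm (n - n / d * d) F)) :=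
    nondeg_sumQuad (nondeg_qF (tau_sq_ne hτ hζ)) (nondeg_oddForm _ F h2)
  have hrank : Module.finrank F ((Fin (n / d) → L × L) × (Unit ⊕ (Fin (n - n / d * d) ⊕ Fin (n - n / d * d)) → F)) =
      2 * n + 1 := by
    rw [Module.finrank_prod, Module.finrank_pi_fintype, Module.finrank_fintype_fun_eq_card]
    simp only [Finset.sum_const, Finset.card_univ, Fintype.card_fin, Fintype.card_sum, Fintype.card_unit,
      Module.finrank_prod, hLrank, smul_eq_mul]
    have : n / d * (d + d) = 2 * (n / d * d) := by ring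
    omega
  have hsim : Sim (sumQuad (ι := Fin (n / d)) (qF F τ) (oddForm (n - n / d * d) F)) (Cfsg.quadFormOdd n F) := by
    rcases normal_form (2 * n + 1) hnd hrank with ⟨k, hk, h⟩ | ⟨k, hk, h⟩ | ⟨k, hk, h⟩
    · have : k = n := by omega
      rwa [this] at h
    · omega
    · omega
  refine dichOrth hτ hζ ha0 hζo hp2 hpF (by rw [hrank]; omega) (nondeg_oddForm _ F h2) hsim ?_
  rw [S0286.result (F := F) (q := Nat.card F) Nat.card_eq_fintype_card.symm hodd n,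
    vp_odd hp2 Finite.one_lt_card hd hd0]

/-- the quadratic space `(L × L)^k` embeds in a nondegenerate space of larger dimension -/
theorem dichEven (hp2 : p ≠ 2) {d : ℕ} (hd : orderOf (((Nat.card F : ℤ) ^ 2 : ℤ) : ZMod p) = d) (hd0 : d ≠ 0) {n k : ℕ}
    (hkd : k * d + 1 ≤ n) (hn3 : 3 ≤ n) {κ : Type} [Fintype κ] [DecidableEq κ] {Q : QuadraticForm F (κ → F)}
    (hQ : Nondeg Q) (hκ : Fintype.card κ = 2 * n)
    (hord : (Nat.card (Cfsg.isometryGroup F Q)).factorization p ≤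
      k * vp p (((Nat.card F : ℤ) ^ 2) ^ d - 1) + k.factorial.factorization p) :
    DichN p k (Cfsg.Omega F Q) := by
  have hpq : ¬ p ∣ Nat.card F := fun h =>
    not_dvd_of_order hd hd0 (dvd_pow (Int.natCast_dvd_natCast.2 h) two_ne_zero)
  have hpF : (p : F) ≠ 0 := cast_ne_zero_of hpq
  obtain ⟨L, _, _, _, L', _, _, ζ, τ, hLrank, hτ, hζ, ha0, hζo⟩ := exists_plane (p := p) (F := F) hp2 hd hd0
  have hLfin : Module.Finite F L := Module.Finite.of_finite
  have hU : Nondeg (QuadraticMap.pi fun _ : Fin k => qF F τ) := nondeg_pi (nondeg_qF (tau_sq_ne hτ hζ))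
  have hrank : Module.finrank F (Fin k → L × L) = 2 * (k * d) := by
    rw [Module.finrank_pi_fintype]
    simp only [Finset.sum_const, Finset.card_univ, Fintype.card_fin, Module.finrank_prod, hLrank, smul_eq_mul]
    ring
  obtain ⟨j, hj⟩ := exists_embed (k * d) hU hQ hrank (by
    rw [Module.finrank_fintype_fun_eq_card, hκ]; omega)
  obtain ⟨K, Φ, hΦ, hK⟩ := exists_compl hU hQ j hj
  have hsim : Sim (sumQuad (ι := Fin k) (qF F τ) (Q.comp K.subtype)) Q := by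
    refine ⟨1, one_ne_zero, Φ.symm, fun x => ?_⟩
    obtain ⟨⟨u, w⟩, rfl⟩ := Φ.surjective x
    rw [LinearEquiv.symm_apply_apply, hΦ, one_mul, sumQuad_apply _ _ _ 0, sumForm, QuadraticMap.pi_apply]
    rfl
  exact dichOrth hτ hζ ha0 hζo hp2 hpF (by
    rw [LinearEquiv.finrank_eq Φ, Module.finrank_fintype_fun_eq_card, hκ]; omega) hK hsim hord

/-- the order of the isometry group of a sum of `k` blocks -/
theorem vp_isom_ge {ι W W₀ : Type*} [Fintype ι] [DecidableEq ι] [AddCommGroup W] [Module F W] [AddCommGroup W₀]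
    [Module F W₀] [Nontrivial W] {b : W → W → F} (b₀ : W₀ → W₀ → F) {z : W ≃ₗ[F] W} (hzb : z ∈ Iso b) {a : ℕ}
    (hz : orderOf z = p ^ a) [Finite (Iso (sumForm (ι := ι) b b₀))] :
    Fintype.card ι * a + (Fintype.card ι).factorial.factorization p ≤
      (Nat.card (Iso (sumForm (ι := ι) b b₀))).factorization p := by
  have hcz : Nat.card (Subgroup.zpowers z) = p ^ a := by rw [Nat.card_zpowers, hz]
  have hfin : Finite (Subgroup.zpowers z) := Nat.finite_of_card_ne_zero (by rw [hcz]; exact pow_ne_zero _ hp.out.ne_zero)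
  let _ : CommGroup (Subgroup.zpowers z) := IsCyclic.commGroup
  have hθ : ∀ m : Subgroup.zpowers z, (Subgroup.zpowers z).subtype m ∈ Iso b := fun m => by
    have : Subgroup.zpowers z ≤ Iso b := by rw [Subgroup.zpowers_le]; exact hzb
    exact this m.2
  have hc : ∀ (π : Equiv.Perm ι) (x : ι → Subgroup.zpowers z), ∃ x' : ι → Subgroup.zpowers z,
      bρ b b₀ π * bδ b₀ (Subgroup.zpowers z).subtype hθ x * (bρ b b₀ π)⁻¹ =
        bδ b₀ (Subgroup.zpowers z).subtype hθ x' := fun π x =>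
    ⟨fun i => x (π.symm i), Subtype.ext (pm_conj π fun i => (Subgroup.zpowers z).subtype (x i))⟩
  have hinj : ∀ (x : ι → Subgroup.zpowers z) (π : Equiv.Perm ι),
      bδ b₀ (Subgroup.zpowers z).subtype hθ x * bρ b b₀ π = 1 → x = 1 ∧ π = 1 := by
    intro x π h
    have h2 : (dg (fun i => (x i : W ≃ₗ[F] W)) : ((ι → W) × W₀) ≃ₗ[F] ((ι → W) × W₀)) * pm π = 1 :=
      congrArg Subtype.val h
    obtain ⟨h3, h4⟩ := eq_one_of_dg_mul_pm h2
    exact ⟨funext fun i => Subtype.ext (congrFun h3 i), h4⟩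
  have h1 := card_prodSub _ _ hc hinj
  have h2 := Subgroup.card_subgroup_dvd_card (prodSub (bδ b₀ (Subgroup.zpowers z).subtype hθ) (bρ b b₀) hc)
  rw [h1] at h2
  have h3 := (Nat.factorization_le_iff_dvd (mul_ne_zero Nat.card_pos.ne' Nat.card_pos.ne') Nat.card_pos.ne').2 h2 p
  rw [Nat.factorization_mul Nat.card_pos.ne' Nat.card_pos.ne', Finsupp.add_apply, Nat.card_fun, hcz, ← pow_mul,
    Nat.Prime.factorization_pow hp.out, Finsupp.single_eq_same, Nat.card_perm, Nat.card_eq_fintype_card] at h3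
  rw [mul_comm]
  exact h3

omit hp [Finite F] in
theorem nondeg_zero' : Nondeg (0 : QuadraticForm F (Fin 0 → F)) := fun _ _ => Subsingleton.elim _ _

/-- **The even-dimensional case, `W₀ = 0`.** -/
theorem dichExact (hp2 : p ≠ 2) {d : ℕ} (hd : orderOf (((Nat.card F : ℤ) ^ 2 : ℤ) : ZMod p) = d) (hd0 : d ≠ 0) {n : ℕ}
    (hn3 : 3 ≤ n) (s : ℤ) (hss : s * s = 1) (hs : (p : ℤ) ∣ (Nat.card F : ℤ) ^ n - s) {κ : Type} [Fintype κ]
    [DecidableEq κ] {q : (κ → F) → F} {c : ℕ}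
    (hq : (Nat.card (Cfsg.isometryGroup F q) : ℤ) = 2 * (Nat.card F : ℤ) ^ c * (((Nat.card F : ℤ) ^ n - s) *
      ∏ i ∈ Finset.range (n - 1), (((Nat.card F : ℤ) ^ 2) ^ (i + 1) - 1)))
    (halt : ∀ {V : Type u} [AddCommGroup V] [Module F V] [FiniteDimensional F V] (Q : QuadraticForm F V), Nondeg Q →
      Module.finrank F V = 2 * n → (∃ j : (κ → F) ≃ₗ[F] V, ∀ x, Q (j x) = q x) ∨
        ∃ (κ' : Type) (_ : Fintype κ') (_ : DecidableEq κ') (q' : (κ' → F) → F), Sim Q q' ∧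
          (Nat.card (Cfsg.isometryGroup F q') : ℤ) = 2 * (Nat.card F : ℤ) ^ c * (((Nat.card F : ℤ) ^ n - (-s)) *
            ∏ i ∈ Finset.range (n - 1), (((Nat.card F : ℤ) ^ 2) ^ (i + 1) - 1))) :
    DichN p (n / d) (Cfsg.Omega F q) := by
  have hpq : ¬ p ∣ Nat.card F := fun h =>
    not_dvd_of_order hd hd0 (dvd_pow (Int.natCast_dvd_natCast.2 h) two_ne_zero)
  have hpF : (p : F) ≠ 0 := cast_ne_zero_of hpq
  have hq1 : 1 < Nat.card F := Finite.one_lt_card
  have hp0 := hp.out.pos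
  have hn1 : 1 ≤ n := by omega
  obtain ⟨L, _, _, _, L', _, _, ζ, τ, hLrank, hτ, hζ, ha0, hζo⟩ := exists_plane (p := p) (F := F) hp2 hd hd0
  have hLfin : Module.Finite F L := Module.Finite.of_finite
  have hdn : d ∣ n := d_dvd hd hss hs
  have hker : n / d * d = n := Nat.div_mul_cancel hdn
  have hnd : Nondeg (sumQuad (ι := Fin (n / d)) (qF F τ) (0 : QuadraticForm F (Fin 0 → F))) :=
    nondeg_sumQuad (nondeg_qF (tau_sq_ne hτ hζ)) nondeg_zero'
  have hrank : Module.finrank F ((Fin (n / d) → L × L) × (Fin 0 → F)) = 2 * n := by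
    rw [Module.finrank_prod, Module.finrank_pi_fintype, Module.finrank_fin_fun]
    simp only [Finset.sum_const, Finset.card_univ, Fintype.card_fin, Module.finrank_prod, hLrank, smul_eq_mul]
    have : n / d * (d + d) = 2 * (n / d * d) := by ring
    omega
  rcases halt _ hnd hrank with ⟨j, hj⟩ | ⟨κ', _, _, q', ⟨c', hc', j, hj⟩, hq'⟩
  · refine dichOrth hτ hζ ha0 hζo hp2 hpF (by rw [hrank]; omega) nondeg_zero' ⟨1, one_ne_zero, j, fun x => by rw [hj, one_mul]⟩ ?_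
    rw [vp_even hp2 hq1 hd hd0 hn1 hss hs hq]
  · exfalso
    have hS : SimF j (fun u _ => q' u) (sumForm (ι := Fin (n / d)) (fun u _ : L × L => qF F τ u)
        (fun u _ : Fin 0 → F => (0 : QuadraticForm F (Fin 0 → F)) u)) c' :=
      ⟨hc', fun x y => by rw [sumForm_quad]; exact hj x⟩
    have hfin : Finite (Iso (sumForm (ι := Fin (n / d)) (fun u _ : L × L => qF F τ u)
        (fun u _ : Fin 0 → F => (0 : QuadraticForm F (Fin 0 → F)) u))) := Finite.of_equiv _ (isoEquiv hS).toEquiv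
    have h1 := vp_isom_ge (p := p) (ι := Fin (n / d)) (b := fun u _ : L × L => qF F τ u)
      (fun u _ : Fin 0 → F => (0 : QuadraticForm F (Fin 0 → F)) u) (z := rs F (zL τ)) (by
        intro u _
        show qF F τ (zL τ u) = qF F τ u
        rw [qF_apply, qF_apply, nQ_zL]) (a := vp p (((Nat.card F : ℤ) ^ 2) ^ d - 1)) (by rw [orderOf_rs hτ hζ, hζo])
    have h2 : Nat.card (Iso (sumForm (ι := Fin (n / d)) (fun u _ : L × L => qF F τ u)
        (fun u _ : Fin 0 → F => (0 : QuadraticForm F (Fin 0 → F)) u))) = Nat.card (Cfsg.isometryGroup F q') :=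
      (Nat.card_congr (isoEquiv hS).toEquiv).symm
    have hs' : ¬ (p : ℤ) ∣ (Nat.card F : ℤ) ^ n - (-s) := by
      intro h
      have h3 : (p : ℤ) ∣ 2 * s := by
        have := dvd_sub h hs
        have e2 : ((Nat.card F : ℤ) ^ n - -s) - ((Nat.card F : ℤ) ^ n - s) = 2 * s := by ring
        rwa [e2] at this
      have h4 : (p : ℤ) ∣ 2 := by
        have := dvd_mul_of_dvd_left h3 s
        rwa [mul_assoc, hss, mul_one] at this
      exact hp2 ((Nat.prime_dvd_prime_iff_eq hp.out Nat.prime_two).1 (Int.natCast_dvd_natCast.1 (by exact_mod_cast h4)))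
    have hne : (Nat.card F : ℤ) ^ n - (-s) ≠ 0 := fun h => hs' (by rw [h]; exact dvd_zero _)
    rw [h2, vp_even_not hp2 hq1 hd hd0 hne hs' hq', Fintype.card_fin] at h1
    obtain ⟨k, hk⟩ : ∃ k, n / d = k + 1 := Nat.exists_eq_succ_of_ne_zero (by
      intro h0
      rw [h0] at hker
      omega)
    have hk' : (n - 1) / d = k := by
      have h5 : n = (k + 1) * d := by rw [← hk, hker]
      have h6 : n - 1 = d - 1 + k * d := by
        rw [h5, add_mul, one_mul]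
        have := Nat.pos_of_ne_zero hd0
        (clear * - this; omega)
      rw [h6, Nat.add_mul_div_right _ _ (Nat.pos_of_ne_zero hd0), Nat.div_eq_of_lt (by
        have := Nat.pos_of_ne_zero hd0
        omega), zero_add]
    rw [hk, hk', Nat.factorial_succ, Nat.factorization_mul (Nat.succ_ne_zero _) (Nat.factorial_ne_zero _),
      Finsupp.add_apply, add_mul, one_mul] at h1
    have := Nat.pos_of_ne_zero ha0
    omega

theorem cast_isom {N q n c : ℕ} (hq : 1 < q) {x : ℕ} {x' : ℤ} (hx : (x : ℤ) = x')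
    (h : N = 2 * q ^ c * x * ∏ i ∈ Finset.range (n - 1), (q ^ (2 * (i + 1)) - 1)) :
    (N : ℤ) = 2 * (q : ℤ) ^ c * (x' * ∏ i ∈ Finset.range (n - 1), (((q : ℤ) ^ 2) ^ (i + 1) - 1)) := by
  rw [h, Nat.cast_mul, cast_prod' hq, Nat.cast_mul, Nat.cast_mul, Nat.cast_pow, hx]
  push_cast
  ring

/-- **Plus type.** -/
theorem dichPlus (hp2 : p ≠ 2) {d : ℕ} (hd : orderOf (((Nat.card F : ℤ) ^ 2 : ℤ) : ZMod p) = d) (hd0 : d ≠ 0) {n k : ℕ}
    (hn3 : 3 ≤ n) (hn : ((p : ℤ) ∣ (Nat.card F : ℤ) ^ n - 1 ∧ k = n / d) ∨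
      (¬ (p : ℤ) ∣ (Nat.card F : ℤ) ^ n - 1 ∧ k = (n - 1) / d)) :
    DichN p k (Cfsg.Omega F (Cfsg.quadFormPlus n F)) := by
  have hn1 : 1 ≤ n := by omega
  have := Fintype.ofFinite F
  have hq1 : 1 < Nat.card F := Finite.one_lt_card
  have e1 : ((Nat.card F ^ n - 1 : ℕ) : ℤ) = (Nat.card F : ℤ) ^ n - 1 := by
    rw [Nat.cast_sub (Nat.one_le_pow _ _ (by omega)), Nat.cast_pow]; rfl
  have e2 : ((Nat.card F ^ n + 1 : ℕ) : ℤ) = (Nat.card F : ℤ) ^ n - (-1) := by push_cast; ring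
  have hc1 := cast_isom hq1 e1 (S0287.result (F := F) (q := Nat.card F) Nat.card_eq_fintype_card.symm n hn1)
  rcases hn with ⟨h1, rfl⟩ | ⟨h1, rfl⟩
  · refine dichExact hp2 hd hd0 hn3 1 (by norm_num) h1 hc1 ?_
    intro V _ _ _ Q hQ hV
    by_cases hP : H955.IsPlus Q
    · obtain ⟨e, he⟩ := H955.exists_plus_equiv n Q hQ hV hP
      refine Or.inl ⟨e.symm, fun x => ?_⟩
      rw [← he, e.apply_symm_apply, LieClassical.QuadForms.coe_plusForm]
    · obtain ⟨a, b, hab⟩ := H955.exists_aniso_coeff F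
      obtain ⟨m, rfl⟩ := Nat.exists_eq_succ_of_ne_zero (show n ≠ 0 by omega)
      obtain ⟨e, he⟩ := H955.exists_minus_equiv hab m Q hQ hV hP
      refine Or.inr ⟨_, inferInstance, inferInstance, Cfsg.quadFormMinus m F a b, ⟨1, one_ne_zero, e.symm, fun x => ?_⟩, ?_⟩
      · rw [← he, e.apply_symm_apply, LieClassical.QuadForms.coe_minusForm, one_mul]
      · exact cast_isom hq1 e2 (S0288.result (F := F) (q := Nat.card F) Nat.card_eq_fintype_card.symm (m + 1) hn1 a b hab)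
  · have hkd : (n - 1) / d * d + 1 ≤ n := by
      have := Nat.div_mul_le_self (n - 1) d
      omega
    have hne : (Nat.card F : ℤ) ^ n - 1 ≠ 0 := fun h => h1 (by rw [h]; exact dvd_zero _)
    rw [← coe_plusForm] at hc1 ⊢
    refine dichEven hp2 hd hd0 hkd hn3 (nondeg_plusForm n F) (by simp only [_root_.Fintype.card_sum, _root_.Fintype.card_fin]; ring) ?_
    rw [vp_even_not hp2 hq1 hd hd0 hne h1 hc1]

/-- **Minus type.** -/
theorem dichMinus (hp2 : p ≠ 2) {d : ℕ} (hd : orderOf (((Nat.card F : ℤ) ^ 2 : ℤ) : ZMod p) = d) (hd0 : d ≠ 0) {n k : ℕ}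
    (hn3 : 3 ≤ n) (a b : F) (hab : ∀ z₁ z₂ : F, z₁ ^ 2 + a * z₁ * z₂ + b * z₂ ^ 2 = 0 → z₁ = 0 ∧ z₂ = 0)
    (hn : ((p : ℤ) ∣ (Nat.card F : ℤ) ^ n + 1 ∧ k = n / d) ∨
      (¬ (p : ℤ) ∣ (Nat.card F : ℤ) ^ n + 1 ∧ k = (n - 1) / d)) :
    DichN p k (Cfsg.Omega F (Cfsg.quadFormMinus (n - 1) F a b)) := by
  have hn1 : 1 ≤ n := by omega
  have := Fintype.ofFinite F
  have hq1 : 1 < Nat.card F := Finite.one_lt_card
  have e1 : ((Nat.card F ^ n - 1 : ℕ) : ℤ) = (Nat.card F : ℤ) ^ n - (-(-1)) := by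
    rw [Nat.cast_sub (Nat.one_le_pow _ _ (by omega)), Nat.cast_pow]; ring
  have e2 : ((Nat.card F ^ n + 1 : ℕ) : ℤ) = (Nat.card F : ℤ) ^ n - (-1) := by push_cast; ring
  have hc1 := cast_isom hq1 e2 (S0288.result (F := F) (q := Nat.card F) Nat.card_eq_fintype_card.symm n hn1 a b hab)
  have e3 : (Nat.card F : ℤ) ^ n + 1 = (Nat.card F : ℤ) ^ n - (-1) := by ring
  rw [e3] at hn
  rcases hn with ⟨h1, rfl⟩ | ⟨h1, rfl⟩
  · refine dichExact hp2 hd hd0 hn3 (-1) (by norm_num) h1 hc1 ?_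
    intro V _ _ _ Q hQ hV
    by_cases hP : H955.IsPlus Q
    · obtain ⟨e, he⟩ := H955.exists_plus_equiv n Q hQ hV hP
      refine Or.inr ⟨_, inferInstance, inferInstance, Cfsg.quadFormPlus n F, ⟨1, one_ne_zero, e.symm, fun x => ?_⟩, ?_⟩
      · rw [← he, e.apply_symm_apply, LieClassical.QuadForms.coe_plusForm, one_mul]
      · exact cast_isom hq1 e1 (S0287.result (F := F) (q := Nat.card F) Nat.card_eq_fintype_card.symm n hn1)
    · obtain ⟨m, rfl⟩ := Nat.exists_eq_succ_of_ne_zero (show n ≠ 0 by omega)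
      obtain ⟨e, he⟩ := H955.exists_minus_equiv hab m Q hQ hV hP
      refine Or.inl ⟨e.symm, fun x => ?_⟩
      rw [← he, e.apply_symm_apply, LieClassical.QuadForms.coe_minusForm]
      rfl
  · have hkd : (n - 1) / d * d + 1 ≤ n := by
      have := Nat.div_mul_le_self (n - 1) d
      omega
    have hne : (Nat.card F : ℤ) ^ n - (-1) ≠ 0 := fun h => h1 (by rw [h]; exact dvd_zero _)
    rw [← coe_minusForm] at hc1 ⊢
    refine dichEven hp2 hd hd0 hkd hn3 (nondeg_minusForm (n - 1) F a b hab) (by simp only [_root_.Fintype.card_sum, _root_.Fintype.card_fin]; omega) ?_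
    rw [vp_even_not hp2 hq1 hd hd0 hne h1 hc1]

end

end Cfsg.Agent.H749
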